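import Cfsg.Agent.H162.GaussMain

/-!
The frame for products of two classes in a group with a root group datum (S2443, S4171).

* `pair` : if every `v u`, `v ∈ U_J⁻`, `u ∈ U_J`, is a product `c₁ c₂` in `L_J`, `c₁` without fixed points on `V_J⁻` and
  `c₂` without fixed points on `V_J`, then every `g` outside the core of `B` is `c₁^x c₂^y` for such a pair;
* `comm` : if `c₂` is always conjugate to `c₁⁻¹`, then `g` is a commutator;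
* `four` : if `c₁` and `c₂` are products of two elements of square one, then `g` is a product of four of them.
-/

set_option autoImplicit false
set_option linter.unusedSectionVars false

namespace Cfsg.Agent.H928.Ore.Frame

open CoxeterSystem Cfsg.Agent.ChevalleyStructure.CoxeterGeom Cfsg.Agent.Tits.Roots Cfsg.Agent.Tits.Core
  Cfsg.Agent.Nodes.Reps
  Cfsg.Agent.Nodes.BNOf Cfsg.Agent.Nodes.StabComb
  Cfsg.Agent.Nodes.RGDLib Cfsg.Agent.Nodes.Bruhat Cfsg.Agent.Nodes.OppDec Cfsg.Agent.Nodes.LeviDec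
  Cfsg.Agent.OddHalf.NI.Mult
  Cfsg.Agent.H162.GaussDec Cfsg.Agent.H162.GaussLevi Cfsg.Agent.H162.GaussSL

variable {I W Y : Type*} [Fintype I] [DecidableEq I] [Group W] [Group Y] {M : CoxeterMatrix I}
  {cs : CoxeterSystem M W} {A : I → I → ℤ} {h : IsCartan M A} {p : ℕ} {T : Subgroup Y} {n : I → Y}
  {X : (I → ℤ) → Subgroup Y}

/-- `c` has no fixed points on the subgroup `V` -/
def NF (V : Subgroup Y) (c : Y) : Prop := ∀ x ∈ V, c * x * c⁻¹ = x → x = 1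

theorem NF.mono {V V' : Subgroup Y} (hV : V' ≤ V) {c : Y} (hc : NF V c) : NF V' c := fun x hx => hc x (hV hx)

/-- the property of a pair of elements of the Levi subgroup -/
structure LP (cs : CoxeterSystem M W) (h : IsCartan M A) (T : Subgroup Y) (X : (I → ℤ) → Subgroup Y) (J : Set I)
    (c₁ c₂ : Y) : Prop where
  mem₁ : c₁ ∈ LJ cs h T X J
  mem₂ : c₂ ∈ LJ cs h T X J
  fix₁ : NF (VNJ cs h X J) c₁
  fix₂ : NF (VJ cs h X J) c₂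

section

variable (R : RGD cs h p T n X)

include R

theorem pair_aux [Finite W] [Finite Y] {J : Set I} {Pr : Y → Y → Prop}
    (hb : ∀ v ∈ UNJ cs h X J, ∀ u ∈ UJ cs h X J, ∃ c₁ c₂, v * u = c₁ * c₂ ∧ LP cs h T X J c₁ c₂ ∧ Pr c₁ c₂) {g : Y}
    (hg : ∃ x : Y, ∃ v ∈ UN cs h X, ∃ u ∈ RGD.Sup X (RGD.Pos cs h), x * g * x⁻¹ = v * u) :
    ∃ c₁ c₂ x y : Y, Pr c₁ c₂ ∧ g = (x * c₁ * x⁻¹) * (y * c₂ * y⁻¹) := by
  obtain ⟨x, v, hv, u, hu, e⟩ := hg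
  obtain ⟨vP, hvP, vL, hvL, rfl⟩ := exists_UNJ R (J := J) hv
  obtain ⟨uL, huL, uP, huP, rfl⟩ := (mem_U_iff R (J := J)).1 hu
  obtain ⟨c₁, c₂, hc, hp, hP⟩ := hb vL hvL uL huL
  obtain ⟨a, ha, e1⟩ := exists_conj_of_fix R (LJ_le_normalizer_VNJ R J hp.mem₁) hp.fix₁ hvP
  have huP' : c₂ * uP * c₂⁻¹ ∈ VJ cs h X J :=
    (Subgroup.mem_normalizer_iff.1 (LJ_le_normalizer_VJ R J hp.mem₂) uP).1 huP
  obtain ⟨b, hb, e2⟩ := exists_conj_of_fix R (LJ_le_normalizer_VJ R J hp.mem₂) hp.fix₂ huP'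
  have e3 : x * g * x⁻¹ = (a * c₁ * a⁻¹) * (b * c₂ * b⁻¹) := by
    rw [e, ← e1, ← e2]
    calc vP * vL * (uL * uP) = vP * (vL * uL) * uP := by group
      _ = vP * c₁ * (c₂ * uP * c₂⁻¹ * c₂) := by rw [hc]; group
  refine ⟨c₁, c₂, x⁻¹ * a, x⁻¹ * b, hP, ?_⟩
  calc g = x⁻¹ * (x * g * x⁻¹) * x := by group
    _ = _ := by rw [e3]; group

variable {F : I → Type*} [∀ i, Field (F i)] {s : ∀ i, Matrix.SpecialLinearGroup (Fin 2) (F i) →* Y}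

/-- **Pairs.** -/
theorem pair [Finite W] [Finite Y] (hG : G1 cs h X = ⊤) (C : Coord X F s)
    (hconn : ∀ J : Set I, J.Nonempty → J ≠ Set.univ → ∃ a ∈ J, ∃ b, b ∉ J ∧ M a b ≠ 2)
    {J : Set I} {Pr : Y → Y → Prop}
    (hb : ∀ v ∈ UNJ cs h X J, ∀ u ∈ UJ cs h X J, ∃ c₁ c₂, v * u = c₁ * c₂ ∧ LP cs h T X J c₁ c₂ ∧ Pr c₁ c₂) {g : Y}
    (hg : g ∉ (RGD.B cs h T X).normalCore) :
    ∃ c₁ c₂ x y : Y, Pr c₁ c₂ ∧ g = (x * c₁ * x⁻¹) * (y * c₂ * y⁻¹) :=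
  pair_aux R hb (gauss R hG C hconn hg)

/-- **Commutators.** -/
theorem comm [Finite W] [Finite Y] (hG : G1 cs h X = ⊤) (C : Coord X F s)
    (hconn : ∀ J : Set I, J.Nonempty → J ≠ Set.univ → ∃ a ∈ J, ∃ b, b ∉ J ∧ M a b ≠ 2)
    {J : Set I}
    (hb : ∀ v ∈ UNJ cs h X J, ∀ u ∈ UJ cs h X J, ∃ c₁ c₂, v * u = c₁ * c₂ ∧ LP cs h T X J c₁ c₂ ∧
      ∃ y, c₂ = y * c₁⁻¹ * y⁻¹) {g : Y}
    (hg : g ∉ (RGD.B cs h T X).normalCore) : ∃ a b : Y, g = a * b * a⁻¹ * b⁻¹ := by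
  obtain ⟨c₁, c₂, x, y, ⟨z, hz⟩, e⟩ := pair R hG C hconn (Pr := fun c₁ c₂ => ∃ y, c₂ = y * c₁⁻¹ * y⁻¹) hb hg
  refine ⟨x * c₁ * x⁻¹, y * z * x⁻¹, ?_⟩
  rw [e, hz]
  group

/-- **Four elements of square one.** -/
theorem four [Finite W] [Finite Y] (hG : G1 cs h X = ⊤) (C : Coord X F s)
    (hconn : ∀ J : Set I, J.Nonempty → J ≠ Set.univ → ∃ a ∈ J, ∃ b, b ∉ J ∧ M a b ≠ 2)
    {J : Set I}
    (hb : ∀ v ∈ UNJ cs h X J, ∀ u ∈ UJ cs h X J, ∃ c₁ c₂, v * u = c₁ * c₂ ∧ LP cs h T X J c₁ c₂ ∧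
      (∃ a b : Y, a ^ 2 = 1 ∧ b ^ 2 = 1 ∧ c₁ = a * b) ∧ ∃ a b : Y, a ^ 2 = 1 ∧ b ^ 2 = 1 ∧ c₂ = a * b) {g : Y}
    (hg : g ∉ (RGD.B cs h T X).normalCore) :
    ∃ a b c d : Y, a ^ 2 = 1 ∧ b ^ 2 = 1 ∧ c ^ 2 = 1 ∧ d ^ 2 = 1 ∧ g = a * b * c * d := by
  obtain ⟨c₁, c₂, x, y, ⟨⟨a, b, ha, hb', e1⟩, c, d, hc, hd, e2⟩, e⟩ := pair R hG C hconn
    (Pr := fun c₁ c₂ => (∃ a b : Y, a ^ 2 = 1 ∧ b ^ 2 = 1 ∧ c₁ = a * b) ∧
      ∃ a b : Y, a ^ 2 = 1 ∧ b ^ 2 = 1 ∧ c₂ = a * b) hb hg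
  have hcj : ∀ x a : Y, a ^ 2 = 1 → (x * a * x⁻¹) ^ 2 = 1 := fun x a h => by
    rw [conj_pow, h, mul_one, mul_inv_cancel]
  refine ⟨x * a * x⁻¹, x * b * x⁻¹, y * c * y⁻¹, y * d * y⁻¹, hcj _ _ ha, hcj _ _ hb', hcj _ _ hc, hcj _ _ hd, ?_⟩
  rw [e, e1, e2]
  group

end

end Cfsg.Agent.H928.Ore.Frame
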