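import Cfsg.Agent.H928.Ore.TwFin
import Cfsg.Agent.H143.Fact.MThree

/-!
**The row `²E₆(q)`**, all `q` (S2443, S4171): every element is a commutator, every element is a product of four elements
of square one.
-/

set_option autoImplicit false

namespace Cfsg.Agent.H928.Ore.TwAll

open Cfsg.Lie
open Cfsg.Agent.H777.Ore (AllC Inv4)

universe u

theorem m3 (F : Type u) [Field F] [Finite F] (hF : 4 ≤ Nat.card F) : Cfsg.Agent.H194.Ore.M3 F :=
  fun _ hL _ hU => Cfsg.Agent.H143.Fact.m3_cell hF hL hU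

/-- **The row `²E₆(q)`.** -/
theorem row {K : Type u} [Field K] [Fintype K] {q : ℕ} (hq : IsPrimePow q) (hK : Fintype.card K = q ^ 2) :
    AllC ↥(twistedE6 K q) ∧ Inv4 ↥(twistedE6 K q) :=
  Cfsg.Agent.H928.Ore.TwFin.row_all hq hK m3

end Cfsg.Agent.H928.Ore.TwAll
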