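import Cfsg.Agent.H928.Ore.Block
import Cfsg.Agent.H958.TS.TwCommon
import Cfsg.Agent.H91.E6Fix
import Cfsg.Agent.H335.Sr.Chev

/-!
`²E₆(q)` inside `E₆(q²)` (S2443, S4171).

* `inc` : the inclusion; `sgY` : the twisted graph automorphism of `E₆(K)`; `exists_inc` : fixed elements are in the image;
* `VJ_le`, `VNJ_le` : the unipotent radicals of `J = {0, 1}` are contained in those of the block `{1, 3}` of `E₆(K)`;
* `gen6` : `E₆(K)` is generated by the simple root groups and their opposites.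
-/

set_option autoImplicit false
set_option linter.unusedSectionVars false

namespace Cfsg.Agent.H928.Ore.TwE

open CoxeterSystem Cfsg.Agent.ChevalleyStructure.CoxeterGeom Cfsg.Agent.Tits.Roots Cfsg.Agent.Tits.Core
  Cfsg.Agent.Nodes Cfsg.Agent.Nodes.Reps Cfsg.Agent.Nodes.BNOf Cfsg.Agent.Nodes.RGDLib Cfsg.Agent.Nodes.Bruhat
  Cfsg.Agent.Nodes.OppDec Cfsg.Agent.Nodes.LeviDec Cfsg.Agent.Nodes.StabComb Cfsg.Agent.Nodes.KindChev
  Cfsg.Agent.Nodes.ChevCls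
  Cfsg.Agent.OddHalf.NI.ModelChev
  Cfsg.Agent.H162.GaussDec Cfsg.Agent.H162.GaussLevi Cfsg.Agent.H162.GaussSL Cfsg.Agent.H162.GaussReg
  Cfsg.Agent.H928.Ore.Frame Cfsg.Agent.H928.Ore.Fix Cfsg.Agent.H928.Ore.Block
open Cfsg.Lie Cfsg.Agent.ChevalleyStructure Cfsg.Agent.ChevalleyStructure.Elts
  Cfsg.Agent.ChevalleyStructure.NPerm
  Cfsg.Agent.ChevalleyStructure.CoxeterGeomTypes Cfsg.Agent.Nodes.RGDChev Cfsg.Agent.KFacts.RgdChevCoord
open Cfsg.Agent.Nodes.RGDTwGen Cfsg.Agent.Nodes.RGDFold Cfsg.Agent.Nodes.RGDTwE6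
open Cfsg.Agent.ChevalleyStructure.TwistedU Cfsg.Agent.ChevalleyStructure.TwistedFix
open Cfsg.Agent.ChevalleyStructure.TwE6Basic (sg hE6 epsE)
open Cfsg.Agent.FixBN.FieldRGD (uu vv dd ww)

open scoped MatrixGroups

universe u

variable {K : Type u} [Field K]

/-- the inclusion -/
noncomputable def inc (K : Type u) [Field K] (q : ℕ) : ↥(twistedE6 K q) →* ↥(chevE6.group K) :=
  Subgroup.inclusion (H91.E6Fix.twistedE6_le_group K q)

theorem inc_injective (q : ℕ) : Function.Injective (inc K q) := Subgroup.inclusion_injective _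

theorem coe_inc {q : ℕ} (g : ↥(twistedE6 K q)) : ((inc K q g : ↥(chevE6.group K)) : GL chevE6.Idx K) = g := rfl

/-! ### The unipotent radicals -/

theorem X_le {φ : K →+* K} {q : ℕ} {z : Fin 4 → ℤ} {H : Subgroup ↥(chevE6.group K)}
    (h : ∀ r < chevE6.nroots, V chevE6 J r = z → XX chevE6 6 K (vec chevE6 6 r) ≤ H) :
    X φ q z ≤ H.comap (inc K q) := by
  intro y hy
  have h1 : (y : GL chevE6.Idx K) ∈ rspan (xG (F := K) RGDTwE6.hp.inList) {k | k < chevE6.nroots ∧ V chevE6 J k = z} :=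
    (Subgroup.mem_subgroupOf.1 hy).1
  have h2 : rspan (xG (F := K) RGDTwE6.hp.inList) {k | k < chevE6.nroots ∧ V chevE6 J k = z} ≤
      H.map (chevE6.group K).subtype := by
    refine rspan_le _ fun r hr t => ?_
    refine ⟨xc RGDTwE6.hp (vec chevE6 6 r) t, h r hr.1 hr.2 ((mem_XX RGDTwE6.hp hr.1 _).2 ⟨_, rfl⟩), ?_⟩
    exact coe_xc RGDTwE6.hp hr.1 t
  obtain ⟨s, hs, e⟩ := h2 h1
  have e2 : s = inc K q y := Subtype.ext e
  rw [Subgroup.mem_comap, ← e2]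
  exact hs

theorem tabV : ∀ r < chevE6.nroots, (∀ k : Fin 4, 0 ≤ V chevE6 J r k) →
    (∃ k : Fin 4, (k ≠ 0 ∧ k ≠ 1) ∧ 0 < V chevE6 J r k) →
    (∀ k : Fin 6, 0 ≤ vec chevE6 6 r k) ∧ ∃ k : Fin 6, (k ≠ 1 ∧ k ≠ 3) ∧ 0 < vec chevE6 6 r k := by
  have h : ∀ r : Fin 72, (∀ k : Fin 4, 0 ≤ V chevE6 J r k) →
    (∃ k : Fin 4, (k ≠ 0 ∧ k ≠ 1) ∧ 0 < V chevE6 J r k) →
    (∀ k : Fin 6, 0 ≤ vec chevE6 6 r k) ∧ ∃ k : Fin 6, (k ≠ 1 ∧ k ≠ 3) ∧ 0 < vec chevE6 6 r k := by decide +kernel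
  exact fun r hr => h ⟨r, hr⟩

theorem tabVN : ∀ r < chevE6.nroots, (∀ k : Fin 4, V chevE6 J r k ≤ 0) →
    (∃ k : Fin 4, (k ≠ 0 ∧ k ≠ 1) ∧ V chevE6 J r k < 0) →
    (∀ k : Fin 6, vec chevE6 6 r k ≤ 0) ∧ ∃ k : Fin 6, (k ≠ 1 ∧ k ≠ 3) ∧ vec chevE6 6 r k < 0 := by
  have h : ∀ r : Fin 72, (∀ k : Fin 4, V chevE6 J r k ≤ 0) →
    (∃ k : Fin 4, (k ≠ 0 ∧ k ≠ 1) ∧ V chevE6 J r k < 0) →
    (∀ k : Fin 6, vec chevE6 6 r k ≤ 0) ∧ ∃ k : Fin 6, (k ≠ 1 ∧ k ≠ 3) ∧ vec chevE6 6 r k < 0 := by decide +kernel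
  exact fun r hr => h ⟨r, hr⟩

/-- the relative block -/
def JR : Set (Fin 4) := {k | k = 0 ∨ k = 1}

/-- the absolute block -/
def JA : Set (Fin 6) := {k | k = 1 ∨ k = 3}

variable {W : Type*} [Group W] (cs : CoxeterSystem CoxeterMatrix.F₄ W)

theorem VJ_le (φ : K →+* K) (q : ℕ) : VJ cs RGDTwE6.isCartan (X φ q) JR ≤
    (VJ CoxeterMatrix.E₆.toCoxeterSystem RGDTwE6.hp.isCartan (XX chevE6 6 K) JA).comap (inc K q) := by
  refine RGD.Sup_le fun z hz => X_le fun r hr hrz => ?_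
  obtain ⟨-, h0, k, hk, hk0⟩ := hz
  obtain ⟨h1, k', hk', h2⟩ := tabV r hr (fun k => by rw [hrz]; exact h0 k)
    ⟨k, ⟨fun h => hk (Or.inl h), fun h => hk (Or.inr h)⟩, by rw [hrz]; exact hk0⟩
  refine RGD.le_Sup ⟨isRoot_vec RGDTwE6.hp _ hr, fun k => h1 k, k', fun h => ?_, h2⟩
  rcases h with h | h
  · exact hk'.1 h
  · exact hk'.2 h

theorem VNJ_le (φ : K →+* K) (q : ℕ) : VNJ cs RGDTwE6.isCartan (X φ q) JR ≤
    (VNJ CoxeterMatrix.E₆.toCoxeterSystem RGDTwE6.hp.isCartan (XX chevE6 6 K) JA).comap (inc K q) := by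
  refine RGD.Sup_le fun z hz => X_le fun r hr hrz => ?_
  obtain ⟨-, h0, k, hk, hk0⟩ := hz
  obtain ⟨h1, k', hk', h2⟩ := tabVN r hr (fun k => by
      have := h0 k
      rw [hrz]
      simpa using this)
    ⟨k, ⟨fun h => hk (Or.inl h), fun h => hk (Or.inr h)⟩, by rw [hrz]; simpa using hk0⟩
  refine RGD.le_Sup ⟨(isRoot_vec RGDTwE6.hp _ hr).neg, fun k => ?_, k', fun h => ?_, ?_⟩
  · have := h1 k
    simpa using this
  · rcases h with h | h
    · exact hk'.1 h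
    · exact hk'.2 h
  · simpa using h2

/-! ### The automorphism -/

theorem sg_mem (φ : K →+* K) {g : GL chevE6.Idx K} (hg : g ∈ chevE6.group K) : sg φ g ∈ chevE6.group K := by
  have h1 : chevE6.group K ≤ (chevE6.group K).comap (sg φ) := by
    refine (group_le_iff hE6 _).2 fun r hr t => ?_
    change sg φ (xG hE6 r t) ∈ chevE6.group K
    rw [H91.E6Fix.sg_xG φ hr]
    exact xG_mem_group hE6 _ _
  exact h1 hg

/-- the twisted graph automorphism -/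
noncomputable def sgY (φ : K →+* K) : ↥(chevE6.group K) →* ↥(chevE6.group K) :=
  ((sg φ).comp (chevE6.group K).subtype).codRestrict (chevE6.group K) fun y => sg_mem φ y.2

theorem sgY_xc (φ : K →+* K) {r : ℕ} (hr : r < 72) (t : K) : sgY φ (xc RGDTwE6.hp (vec chevE6 6 r) t) =
    xc RGDTwE6.hp (vec chevE6 6 (H91.E6Fix.rho r)) (((epsE ⟨r, hr⟩ : ℤ) : K) * φ t) := by
  apply Subtype.ext
  change sg φ ((xc RGDTwE6.hp (vec chevE6 6 r) t : ↥(chevE6.group K)) : GL chevE6.Idx K) = _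
  rw [coe_xc RGDTwE6.hp hr, coe_xc RGDTwE6.hp (H91.E6Fix.rho_lt r hr)]
  exact H91.E6Fix.sg_xG φ hr t

theorem exists_inc [Fintype K] {φ : K →+* K} {q : ℕ} (hφ : ∀ t, φ t = t ^ q) (hqq : ∀ t : K, (t ^ q) ^ q = t)
    {y : ↥(chevE6.group K)} (hy : sgY φ y = y) : ∃ g : ↥(twistedE6 K q), inc K q g = y := by
  have h1 : (y : GL chevE6.Idx K) ∈ twistedE6 K q := by
    refine H91.E6Fix.mem_twisted_of_fixed hφ (fun t => by rw [hφ, hφ, hqq]) y.2 ?_
    exact congrArg Subtype.val hy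
  exact ⟨⟨y, h1⟩, rfl⟩

theorem sgY_inc [Fintype K] {φ : K →+* K} {q : ℕ} (hφ : ∀ t, φ t = t ^ q) (hqq : ∀ t : K, (t ^ q) ^ q = t)
    (g : ↥(twistedE6 K q)) : sgY φ (inc K q g) = inc K q g := by
  apply Subtype.ext
  exact TwE6Basic.twisted_le_fix φ hφ hqq g.2

/-- the graph automorphism on the nodes -/
def ga : Fin 6 → Fin 6 := ![5, 1, 4, 3, 2, 0]

theorem ga_ga : ∀ i, ga (ga i) = i := by decide

theorem tab_ga : ∀ i : Fin 6, H91.E6Fix.rho (chevE6.simple i) = chevE6.simple (ga i) ∧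
    H91.E6Fix.rho (chevE6.neg (chevE6.simple i)) = chevE6.neg (chevE6.simple (ga i)) ∧
    (∀ h : chevE6.simple i < 72, epsE ⟨chevE6.simple i, h⟩ = 1) ∧
    (∀ h : chevE6.neg (chevE6.simple i) < 72, epsE ⟨chevE6.neg (chevE6.simple i), h⟩ = 1) := by decide +kernel

theorem sgY_pos (φ : K →+* K) (i : Fin 6) (t : K) :
    sgY φ (xc RGDTwE6.hp (sr i) t) = xc RGDTwE6.hp (sr (ga i)) (φ t) := by
  have hi : chevE6.simple i < 72 := simple_lt RGDTwE6.hp.inList (lt_rank RGDTwE6.hp i)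
  obtain ⟨h1, -, h2, -⟩ := tab_ga i
  rw [← vec_simple RGDTwE6.hp i, sgY_xc φ hi, h1, h2, Int.cast_one, one_mul, vec_simple RGDTwE6.hp (ga i)]

theorem sgY_neg (φ : K →+* K) (i : Fin 6) (t : K) :
    sgY φ (xc RGDTwE6.hp (-sr i) t) = xc RGDTwE6.hp (-sr (ga i)) (φ t) := by
  have hi := simple_lt RGDTwE6.hp.inList (lt_rank RGDTwE6.hp i)
  have hi' := simple_lt RGDTwE6.hp.inList (lt_rank RGDTwE6.hp (ga i))
  obtain ⟨-, h1, -, h2⟩ := tab_ga i
  have hi2 : chevE6.neg (chevE6.simple i) < 72 := neg_lt RGDTwE6.hp.inList hi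
  rw [← vec_simple RGDTwE6.hp i, ← vec_neg RGDTwE6.hp hi, sgY_xc φ hi2, h1, h2, Int.cast_one,
    one_mul, vec_neg RGDTwE6.hp hi', vec_simple RGDTwE6.hp (ga i)]

/-! ### Generation by the simple root groups -/

section

variable {D : ChevalleyDatum} {l : ℕ} {M : CoxeterMatrix (Fin l)} (hp : IsType D l M) [Finite K]

include hp in
theorem gen_simple {H : Subgroup ↥(D.group K)} (h1 : ∀ i t, xc hp (sr i) t ∈ H) (h2 : ∀ i t, xc hp (-sr i) t ∈ H) :
    H = ⊤ := by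
  obtain ⟨p, hpc⟩ := CharP.exists K
  have : Fact p.Prime := ⟨(CharP.char_is_prime_or_zero K p).resolve_right (CharP.char_ne_zero_of_finite K p)⟩
  have R := rgd (K := K) hp M.toCoxeterSystem p
  have hX : ∀ i, XX D l K (sr i) ≤ H := by
    intro i y hy
    obtain ⟨t, rfl⟩ := (mem_XX hp (simple_lt hp.inList (lt_rank hp i)) y).1 (by rwa [vec_simple hp i])
    rw [vec_simple hp i]
    exact h1 i t
  have hn : ∀ i, nc hp K i ∈ H := by
    intro i
    rw [← sl_ww hp i]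
    have e : (ww (1 : K) one_ne_zero : SL(2, K)) = uu 1 * vv (-1) * uu 1 := by
      apply Subtype.ext
      change !![(0 : K), 1; -1⁻¹, 0] = !![1, 1; 0, 1] * !![1, 0; -1, 1] * !![1, 1; 0, 1]
      rw [Matrix.mul_fin_two, Matrix.mul_fin_two]
      congr 1
      ext i j
      fin_cases i <;> fin_cases j <;> simp
    rw [e, map_mul, map_mul, sl_uu, sl_vv]
    exact mul_mem (mul_mem (h1 i _) (h2 i _)) (h1 i _)
  rw [eq_top_iff, ← G1_eq_top hp (M.toCoxeterSystem) (K := K)]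
  refine RGD.Sup_le ?_
  rintro _ ⟨w, i, rfl⟩
  induction w using M.toCoxeterSystem.simple_induction_left with
  | one =>
    rw [map_one]
    exact hX i
  | mul_simple_left w j ih =>
    have h3 := R.conj j (rep M.toCoxeterSystem hp.isCartan w (sr i)) ⟨w, i, rfl⟩
    rw [← rep_mul_apply] at h3
    change XX D l K _ ≤ H
    intro y hy
    have hy' : y ∈ cj (nc hp K j) (XX D l K (rep M.toCoxeterSystem hp.isCartan w (sr i))) := by
      rw [show cj (nc hp K j) (XX D l K (rep M.toCoxeterSystem hp.isCartan w (sr i))) = _ from h3]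
      exact hy
    obtain ⟨x, hx, rfl⟩ := hy'
    exact mul_mem (mul_mem (hn j) (ih hx)) (inv_mem (hn j))

include hp in
/-- elements with the same action on the simple root groups are equal -/
theorem ext_simple (hZ : Subgroup.center ↥(D.group K) = ⊥) {y y' : ↥(D.group K)}
    (h1 : ∀ i t, y * xc hp (sr i) t * y⁻¹ = y' * xc hp (sr i) t * y'⁻¹)
    (h2 : ∀ i t, y * xc hp (-sr i) t * y⁻¹ = y' * xc hp (-sr i) t * y'⁻¹) : y = y' := by
  have h3 : Subgroup.centralizer {y'⁻¹ * y} = (⊤ : Subgroup ↥(D.group K)) := by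
    refine gen_simple hp (fun i t => ?_) (fun i t => ?_)
    · rw [Subgroup.mem_centralizer_singleton_iff]
      calc xc hp (sr i) t * (y'⁻¹ * y) = y'⁻¹ * (y' * xc hp (sr i) t * y'⁻¹) * y := by group
        _ = y'⁻¹ * (y * xc hp (sr i) t * y⁻¹) * y := by rw [h1]
        _ = y'⁻¹ * y * xc hp (sr i) t := by group
    · rw [Subgroup.mem_centralizer_singleton_iff]
      calc xc hp (-sr i) t * (y'⁻¹ * y) = y'⁻¹ * (y' * xc hp (-sr i) t * y'⁻¹) * y := by group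
        _ = y'⁻¹ * (y * xc hp (-sr i) t * y⁻¹) * y := by rw [h2]
        _ = y'⁻¹ * y * xc hp (-sr i) t := by group
  have h4 : y'⁻¹ * y ∈ Subgroup.center ↥(D.group K) := by
    rw [Subgroup.mem_center_iff]
    intro g
    have h5 : g ∈ Subgroup.centralizer {y'⁻¹ * y} := by rw [h3]; exact Subgroup.mem_top g
    exact (Subgroup.mem_centralizer_singleton_iff.1 h5)
  rw [hZ, Subgroup.mem_bot] at h4
  calc y = y' * (y'⁻¹ * y) := by group
    _ = y' := by rw [h4, mul_one]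

end

end Cfsg.Agent.H928.Ore.TwE
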