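import Cfsg.Agent.H928.Ore.Fix
import Cfsg.Agent.H162.GaussReg
import Cfsg.Agent.H162.GaussExcMain

/-!
Blocks of type `A` in the Chevalley groups (S2443, S4171).

* `hel` : the coroot elements of `SL_n(K)`; `phi_hel` : their images;
* `nf_block` : fixed points of `s₀ φ(x)`, `x = P diag P⁻¹ ∈ SL₃(K)`, on the unipotent radicals.
-/

set_option autoImplicit false
set_option linter.unusedSectionVars false

namespace Cfsg.Agent.H928.Ore.Block

open CoxeterSystem Cfsg.Agent.ChevalleyStructure.CoxeterGeom Cfsg.Agent.Tits.Roots Cfsg.Agent.Tits.Core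
  Cfsg.Agent.Nodes.Reps Cfsg.Agent.Nodes.BNOf Cfsg.Agent.Nodes.RGDLib Cfsg.Agent.Nodes.Bruhat
  Cfsg.Agent.Nodes.OppDec Cfsg.Agent.Nodes.LeviDec Cfsg.Agent.Nodes.KindChev Cfsg.Agent.Nodes.ChevCls
  Cfsg.Agent.OddHalf.NI.ModelChev Cfsg.Agent.Nodes.StabComb
  Cfsg.Agent.H162.GaussDec Cfsg.Agent.H162.GaussLevi Cfsg.Agent.H162.GaussSL Cfsg.Agent.H162.GaussReg
  Cfsg.Agent.H928.Ore.Frame Cfsg.Agent.H928.Ore.Fix
open Cfsg.Lie Cfsg.Agent.ChevalleyStructure Cfsg.Agent.ChevalleyStructure.Elts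
  Cfsg.Agent.ChevalleyStructure.RootVec Cfsg.Agent.ChevalleyStructure.NPerm
  Cfsg.Agent.ChevalleyStructure.CoxeterGeomTypes Cfsg.Agent.Nodes.RGDChev Cfsg.Agent.KFacts.RgdChevCoord
open Cfsg.Agent.FixBN.FieldRGD (uu vv dd ww)
open Matrix (diagonal det_diagonal)

universe u v

/-- the coroot element -/
def hel {n : ℕ} {K : Type*} [Field K] {a b : Fin n} (hab : a ≠ b) (u : Kˣ) : Matrix.SpecialLinearGroup (Fin n) K :=
  (Matrix.SpecialLinearGroup.transvection hab (u : K) * Matrix.SpecialLinearGroup.transvection hab.symm (-((u⁻¹ : Kˣ) : K)) *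
    Matrix.SpecialLinearGroup.transvection hab (u : K)) *
  (Matrix.SpecialLinearGroup.transvection hab (-1) * Matrix.SpecialLinearGroup.transvection hab.symm 1 *
    Matrix.SpecialLinearGroup.transvection hab (-1))

/-- the diagonal matrices of `SL₃(K)` -/
def dg3 {K : Type*} [Field K] (a b : Kˣ) : Matrix.SpecialLinearGroup (Fin 3) K :=
  ⟨diagonal ![(a : K), ((a⁻¹ * b : Kˣ) : K), ((b⁻¹ : Kˣ) : K)], by
    rw [det_diagonal, Fin.prod_univ_three]
    simp⟩

/-- the entries of a product -/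
theorem m3 {K : Type*} [Field K] {A B : Matrix.SpecialLinearGroup (Fin 3) K} {X Y : Matrix (Fin 3) (Fin 3) K}
    (hA : (A : Matrix (Fin 3) (Fin 3) K) = X) (hB : (B : Matrix (Fin 3) (Fin 3) K) = Y) :
    ((A * B : Matrix.SpecialLinearGroup (Fin 3) K) : Matrix (Fin 3) (Fin 3) K) = X * Y := by
  subst hA hB
  rfl

theorem tv_coe {K : Type*} [Field K] {i j : Fin 3} (hij : i ≠ j) (c : K) :
    ((Matrix.SpecialLinearGroup.transvection hij c : Matrix.SpecialLinearGroup (Fin 3) K) : Matrix (Fin 3) (Fin 3) K) =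
      1 + Matrix.single i j c := rfl

theorem dg3_eq {K : Type*} [Field K] (a b : Kˣ) :
    dg3 a b = hel (show (0 : Fin 3) ≠ 1 by decide) a * hel (show (1 : Fin 3) ≠ 2 by decide) b := by
  have ha : (a : K) ≠ 0 := a.ne_zero
  have hb : (b : K) ≠ 0 := b.ne_zero
  have h01 : ∀ c : K, ((Matrix.SpecialLinearGroup.transvection (show (0 : Fin 3) ≠ 1 by decide) c :
      Matrix.SpecialLinearGroup (Fin 3) K) : Matrix (Fin 3) (Fin 3) K) = !![1, c, 0; 0, 1, 0; 0, 0, 1] := by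
    intro c; rw [tv_coe]; ext i j; fin_cases i <;> fin_cases j <;> simp [Matrix.single]
  have h10 : ∀ c : K, ((Matrix.SpecialLinearGroup.transvection (show (0 : Fin 3) ≠ 1 by decide).symm c :
      Matrix.SpecialLinearGroup (Fin 3) K) : Matrix (Fin 3) (Fin 3) K) = !![1, 0, 0; c, 1, 0; 0, 0, 1] := by
    intro c; rw [tv_coe]; ext i j; fin_cases i <;> fin_cases j <;> simp [Matrix.single]
  have h12 : ∀ c : K, ((Matrix.SpecialLinearGroup.transvection (show (1 : Fin 3) ≠ 2 by decide) c :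
      Matrix.SpecialLinearGroup (Fin 3) K) : Matrix (Fin 3) (Fin 3) K) = !![1, 0, 0; 0, 1, c; 0, 0, 1] := by
    intro c; rw [tv_coe]; ext i j; fin_cases i <;> fin_cases j <;> simp [Matrix.single]
  have h21 : ∀ c : K, ((Matrix.SpecialLinearGroup.transvection (show (1 : Fin 3) ≠ 2 by decide).symm c :
      Matrix.SpecialLinearGroup (Fin 3) K) : Matrix (Fin 3) (Fin 3) K) = !![1, 0, 0; 0, 1, 0; 0, c, 1] := by
    intro c; rw [tv_coe]; ext i j; fin_cases i <;> fin_cases j <;> simp [Matrix.single]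
  have e1 : ((hel (show (0 : Fin 3) ≠ 1 by decide) a : Matrix.SpecialLinearGroup (Fin 3) K) : Matrix (Fin 3) (Fin 3) K) =
      !![(a : K), 0, 0; 0, (a : K)⁻¹, 0; 0, 0, 1] := by
    refine (m3 (m3 (m3 (h01 _) (h10 _)) (h01 _)) (m3 (m3 (h01 _) (h10 _)) (h01 _))).trans ?_
    ext i j
    fin_cases i <;> fin_cases j <;> simp [Matrix.mul_apply, Fin.sum_univ_three, ha]
  have e2 : ((hel (show (1 : Fin 3) ≠ 2 by decide) b : Matrix.SpecialLinearGroup (Fin 3) K) : Matrix (Fin 3) (Fin 3) K) =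
      !![1, 0, 0; 0, (b : K), 0; 0, 0, (b : K)⁻¹] := by
    refine (m3 (m3 (m3 (h12 _) (h21 _)) (h12 _)) (m3 (m3 (h12 _) (h21 _)) (h12 _))).trans ?_
    ext i j
    fin_cases i <;> fin_cases j <;> simp [Matrix.mul_apply, Fin.sum_univ_three, hb]
  apply Subtype.ext
  change _ = (((hel (show (0 : Fin 3) ≠ 1 by decide) a * hel (show (1 : Fin 3) ≠ 2 by decide) b :
    Matrix.SpecialLinearGroup (Fin 3) K)) : Matrix (Fin 3) (Fin 3) K)
  rw [m3 e1 e2]
  ext i j
  fin_cases i <;> fin_cases j <;> simp [dg3, Matrix.mul_apply, Fin.sum_univ_three]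

section

variable {D : ChevalleyDatum} {l : ℕ} {M : CoxeterMatrix (Fin l)} (hp : IsType D l M) {K : Type u} [Field K]
  {n : ℕ} {r : Fin n → Fin n → ℕ} {ε : ℤ} (hε : ε * ε = 1) (hr : ∀ a b, a ≠ b → r a b < D.nroots)
  (hneg : ∀ a b, a ≠ b → r b a = D.neg (r a b)) {φ : Matrix.SpecialLinearGroup (Fin n) K →* ↥(D.group K)}
  (hφ : ∀ a b (hab : a ≠ b) c, φ (Matrix.SpecialLinearGroup.transvection hab c) = xc hp (vec D l (r a b)) ((ε : K) * c))

include hε hr hneg hφ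

theorem phi_hel {a b : Fin n} (hab : a ≠ b) {i : Fin l} (hi : r a b = D.simple i) (u : Kˣ) :
    φ (hel hab u) = th hp (Pi.mulSingle i u) := by
  have hεK : (ε : K) * (ε : K) = 1 := by rw [← Int.cast_mul, hε, Int.cast_one]
  rw [th_mulSingle]
  have e1 : ∀ c, φ (Matrix.SpecialLinearGroup.transvection hab c) = sl hp i (uu ((ε : K) * c)) := by
    intro c
    rw [hφ, sl_uu, hi, vec_simple hp i]
  have e2 : ∀ c, φ (Matrix.SpecialLinearGroup.transvection hab.symm c) = sl hp i (vv ((ε : K) * c)) := by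
    intro c
    rw [hφ, sl_vv, hneg a b hab, vec_neg hp (hr a b hab), hi, vec_simple hp i]
  unfold hel
  rw [map_mul, map_mul, map_mul, map_mul, map_mul, e1, e1, e2, e2, ← map_mul, ← map_mul, ← map_mul, ← map_mul,
    ← map_mul]
  congr 1
  have hu : (u : K) ≠ 0 := u.ne_zero
  rw [Units.val_inv_eq_inv_val]
  apply Subtype.ext
  change (!![1, (ε : K) * u; 0, 1] * !![1, 0; (ε : K) * -(u : K)⁻¹, 1] * !![1, (ε : K) * u; 0, 1]) *
    (!![1, (ε : K) * -1; 0, 1] * !![1, 0; (ε : K) * 1, 1] * !![1, (ε : K) * -1; 0, 1]) = !![(u : K), 0; 0, (u : K)⁻¹]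
  have g1 : (!![1, (ε : K) * u; 0, 1] * !![1, 0; (ε : K) * -(u : K)⁻¹, 1] * !![1, (ε : K) * u; 0, 1] :
      Matrix (Fin 2) (Fin 2) K) = !![0, (ε : K) * u; (ε : K) * -(u : K)⁻¹, 0] := by
    have g2 : (ε : K) * u * ((ε : K) * (u : K)⁻¹) = 1 := by
      rw [mul_mul_mul_comm, hεK, mul_inv_cancel₀ hu, one_mul]
    rw [Matrix.mul_fin_two, Matrix.mul_fin_two]
    have g3 : (ε : K) * (u : K)⁻¹ * ((ε : K) * u) = 1 := by
      rw [mul_mul_mul_comm, hεK, inv_mul_cancel₀ hu, one_mul]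
    ext a b
    fin_cases a <;> fin_cases b
    · simp [g2]
    · simp [g2]
    · simp
    · simp [g3]
  have g1' : (!![1, (ε : K) * -1; 0, 1] * !![1, 0; (ε : K) * 1, 1] * !![1, (ε : K) * -1; 0, 1] :
      Matrix (Fin 2) (Fin 2) K) = !![0, -(ε : K); (ε : K), 0] := by
    rw [Matrix.mul_fin_two, Matrix.mul_fin_two]
    ext a b
    fin_cases a <;> fin_cases b
    · simp [hεK]
    · simp [hεK]
    · simp
    · simp [hεK]
  rw [g1, g1', Matrix.mul_fin_two]
  ext a b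
  fin_cases a <;> fin_cases b
  · simp
    rw [mul_right_comm, hεK, one_mul]
  · simp
  · simp
  · simp
    rw [mul_right_comm, hεK, one_mul]

omit hε hneg in
theorem phi_mem {J : Set (Fin l)} (hJ : ∀ a b, a ≠ b → ∀ k, k ∉ J → vec D l (r a b) k = 0)
    (A : Matrix.SpecialLinearGroup (Fin n) K) :
    φ A ∈ LJ M.toCoxeterSystem hp.isCartan (TT D K) (XX D l K) J := by
  have h1 : (⊤ : Subgroup (Matrix.SpecialLinearGroup (Fin n) K)) ≤
      (LJ M.toCoxeterSystem hp.isCartan (TT D K) (XX D l K) J).comap φ := by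
    rw [← Cfsg.Agent.LieClassical.SLGen.closure_transvections, Subgroup.closure_le]
    rintro _ ⟨a, b, hab, c, rfl⟩
    change φ _ ∈ LJ M.toCoxeterSystem hp.isCartan (TT D K) (XX D l K) J
    rw [hφ]
    refine X_le_LJ (J := J) (x := vec D l (r a b)) ⟨isRoot_vec hp _ (hr a b hab), hJ a b hab⟩ ?_
    exact (mem_XX hp (hr a b hab) _).2 ⟨_, rfl⟩
  exact h1 (Subgroup.mem_top A)

omit hε hneg in
/-- a torus element with trivial values on the roots of the block commutes with it -/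
theorem comm_phi {s : ↥(D.group K)} (hs : s ∈ TT D K) (h1 : ∀ a b, a ≠ b → ch hp (vec D l (r a b)) s = 1)
    (A : Matrix.SpecialLinearGroup (Fin n) K) : s * φ A = φ A * s := by
  have h2 : (MulAut.conj s).toMonoidHom.comp φ = φ := by
    refine hom_ext fun a b hab c => ?_
    change s * φ _ * s⁻¹ = φ _
    rw [hφ, (act hp (hr a b hab) hs).2, h1 a b hab, one_mul]
  have h3 := DFunLike.congr_fun h2 A
  change s * φ A * s⁻¹ = φ A at h3
  calc s * φ A = (s * φ A * s⁻¹) * s := by group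
    _ = φ A * s := by rw [h3]

end

section

variable {D : ChevalleyDatum} {l : ℕ} {M : CoxeterMatrix (Fin l)} (hp : IsType D l M) {K : Type u} [Field K]
  {r : Fin 3 → Fin 3 → ℕ} {ε : ℤ} (hε : ε * ε = 1) (hr : ∀ a b, a ≠ b → r a b < D.nroots)
  (hneg : ∀ a b, a ≠ b → r b a = D.neg (r a b)) {φ : Matrix.SpecialLinearGroup (Fin 3) K →* ↥(D.group K)}
  (hφ : ∀ a b (hab : a ≠ b) c, φ (Matrix.SpecialLinearGroup.transvection hab c) = xc hp (vec D l (r a b)) ((ε : K) * c))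

include hε hr hneg hφ

theorem phi_dg3 {i j : Fin l} (hi : r 0 1 = D.simple i) (hj : r 1 2 = D.simple j) (a b : Kˣ) :
    φ (dg3 a b) = th hp (Pi.mulSingle i a * Pi.mulSingle j b) := by
  rw [dg3_eq, map_mul, phi_hel hp hε hr hneg hφ _ hi, phi_hel hp hε hr hneg hφ _ hj, ← map_mul]

/-- **Fixed points of `s₀ φ(x)`.** -/
theorem nf_block [Finite K] {i j : Fin l} (hi : r 0 1 = D.simple i) (hj : r 1 2 = D.simple j) {J : Set (Fin l)}
    (hJ : ∀ a b, a ≠ b → ∀ k, k ∉ J → vec D l (r a b) k = 0) {σ : Fin l → Kˣ}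
    (hσ : ∀ a b, a ≠ b → ∏ k : Fin l, ((σ k : Kˣ) : K) ^ D.cartan k (r a b) = 1) {a b : Kˣ}
    (hne : ∀ s < D.nroots, (∃ k, k ∉ J ∧ vec D l s k ≠ 0) →
      (∏ k : Fin l, ((σ k : Kˣ) : K) ^ D.cartan k s) * ((a : K) ^ D.cartan i s * (b : K) ^ D.cartan j s) ≠ 1)
    {x P : Matrix.SpecialLinearGroup (Fin 3) K} (hx : x = P * dg3 a b * P⁻¹) :
    NF (VJ M.toCoxeterSystem hp.isCartan (XX D l K) J) (th hp σ * φ x) ∧
      NF (VNJ M.toCoxeterSystem hp.isCartan (XX D l K) J) (th hp σ * φ x) := by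
  obtain ⟨p, hpc⟩ := CharP.exists K
  have : Fact p.Prime := ⟨(CharP.char_is_prime_or_zero K p).resolve_right (CharP.char_ne_zero_of_finite K p)⟩
  have := finite_W hp M.toCoxeterSystem
  have hth : ∀ t : Fin l → Kˣ, th hp t ∈ TT D K := fun t => (thT hp t).2
  have hcomm := comm_phi hp hr hφ (hth σ) (fun a b hab => by rw [ch_th hp (hr a b hab), hσ a b hab])
  have e : th hp σ * φ x = φ P * th hp (σ * (Pi.mulSingle i a * Pi.mulSingle j b)) * (φ P)⁻¹ := by
    rw [hx, map_mul, map_mul, map_inv, phi_dg3 hp hε hr hneg hφ hi hj, map_mul (th hp) σ, ← mul_assoc, ← mul_assoc,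
      hcomm P, ← mul_assoc]
  rw [e]
  refine nf_conj (rgd (K := K) hp M.toCoxeterSystem p) (hth _) (noFix_ch hp (hth _) fun s hs hk => ?_)
    (phi_mem hp hr hφ hJ P)
  rw [ch_th hp hs]
  have e2 : ∀ (i : Fin l) (u : Kˣ), ∏ k, (((Pi.mulSingle i u : Fin l → Kˣ) k : Kˣ) : K) ^ D.cartan k s =
      (u : K) ^ D.cartan i s := by
    intro i u
    rw [Finset.prod_eq_single i]
    · rw [Pi.mulSingle_eq_same]
    · intro k _ hk
      rw [Pi.mulSingle_eq_of_ne hk, Units.val_one, _root_.one_zpow]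
    · intro hi; exact absurd (Finset.mem_univ i) hi
  have e3 : ∏ k : Fin l, (((σ * (Pi.mulSingle i a * Pi.mulSingle j b) : Fin l → Kˣ) k : Kˣ) : K) ^ D.cartan k s =
      (∏ k : Fin l, ((σ k : Kˣ) : K) ^ D.cartan k s) * ((a : K) ^ D.cartan i s * (b : K) ^ D.cartan j s) := by
    rw [← e2 i a, ← e2 j b, ← Finset.prod_mul_distrib, ← Finset.prod_mul_distrib]
    refine Finset.prod_congr rfl fun k _ => ?_
    rw [Pi.mul_apply, Pi.mul_apply, Units.val_mul, Units.val_mul, mul_zpow, mul_zpow]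
  rw [e3]
  exact hne s hs hk

end

end Cfsg.Agent.H928.Ore.Block
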