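import Cfsg.Agent.H928.Ore.Frame
import Cfsg.Agent.H162.GaussExc
import Cfsg.Agent.ChevalleyStructure.FieldIso

/-!
Elements without fixed points on the unipotent radicals (S2443, S4171).

* `nf_conj` : a conjugate `g t g⁻¹`, `g ∈ L_J`, `t ∈ T` without fixed points on the root groups outside `J`;
* `NF.of_hom` : pull back along an injective homomorphism (base change);
* `noFix_ch` : the condition for `D.group K` from the values of the roots on `t`;
* `bc` : the base change `D.group K → D.group K'`.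
-/

set_option autoImplicit false
set_option linter.unusedSectionVars false

namespace Cfsg.Agent.H928.Ore.Fix

open CoxeterSystem Cfsg.Agent.ChevalleyStructure.CoxeterGeom Cfsg.Agent.Tits.Roots Cfsg.Agent.Tits.Core
  Cfsg.Agent.Nodes.Reps Cfsg.Agent.Nodes.BNOf Cfsg.Agent.Nodes.RGDLib Cfsg.Agent.Nodes.Bruhat
  Cfsg.Agent.Nodes.OppDec Cfsg.Agent.Nodes.LeviDec Cfsg.Agent.Nodes.KindChev Cfsg.Agent.Nodes.ChevCls
  Cfsg.Agent.OddHalf.NI.Mult Cfsg.Agent.OddHalf.NI.ModelChev Cfsg.Agent.Nodes.StabComb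
  Cfsg.Agent.H162.GaussDec Cfsg.Agent.H162.GaussLevi Cfsg.Agent.H928.Ore.Frame
open Cfsg.Lie Cfsg.Agent.ChevalleyStructure Cfsg.Agent.ChevalleyStructure.Elts
  Cfsg.Agent.ChevalleyStructure.RootVec Cfsg.Agent.ChevalleyStructure.NPerm
  Cfsg.Agent.ChevalleyStructure.CoxeterGeomTypes Cfsg.Agent.Nodes.RGDChev Cfsg.Agent.KFacts.RgdChevCoord

universe u v

/-! ### Root group data -/

section

variable {I W Y : Type*} [Fintype I] [DecidableEq I] [Group W] [Group Y] {M : CoxeterMatrix I}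
  {cs : CoxeterSystem M W} {A : I → I → ℤ} {h : IsCartan M A} {p : ℕ} {T : Subgroup Y} {n : I → Y}
  {X : (I → ℤ) → Subgroup Y}

theorem NF.conj {V : Subgroup Y} {c g : Y} (hg : g ∈ Subgroup.normalizer (V : Set Y)) (hc : NF V c) :
    NF V (g * c * g⁻¹) := by
  intro x hx h
  have h1 : g⁻¹ * x * g ∈ V := by
    have := (Subgroup.mem_normalizer_iff.1 (inv_mem hg) x).1 hx
    rwa [inv_inv] at this
  have h2 := hc _ h1 (by
    calc c * (g⁻¹ * x * g) * c⁻¹ = g⁻¹ * ((g * c * g⁻¹) * x * (g * c * g⁻¹)⁻¹) * g := by group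
      _ = g⁻¹ * x * g := by rw [h])
  calc x = g * (g⁻¹ * x * g) * g⁻¹ := by group
    _ = 1 := by rw [h2]; group

theorem NF.of_hom {Y' : Type*} [Group Y'] (f : Y →* Y') (hf : Function.Injective f) {V : Subgroup Y}
    {V' : Subgroup Y'} (hV : V ≤ V'.comap f) {c : Y} (hc : NF V' (f c)) : NF V c := by
  intro x hx h
  apply hf
  rw [map_one]
  refine hc _ (hV hx) ?_
  rw [← map_inv, ← map_mul, ← map_mul, h]

theorem NF.inv {V : Subgroup Y} {c : Y} (hc : NF V c) : NF V c⁻¹ := by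
  intro x hx h
  rw [inv_inv] at h
  refine hc x hx ?_
  calc c * x * c⁻¹ = c * (c⁻¹ * x * c) * c⁻¹ := by rw [h]
    _ = x := by group

theorem nf_conj [Finite W] (R : RGD cs h p T n X) {J : Set I} {t g : Y} (ht : t ∈ T) (hf : NoFix cs h X J t)
    (hg : g ∈ LJ cs h T X J) :
    NF (VJ cs h X J) (g * t * g⁻¹) ∧ NF (VNJ cs h X J) (g * t * g⁻¹) :=
  ⟨NF.conj (LJ_le_normalizer_VJ R J hg) fun _ hx h => fix_VJ R ht hf hx h,
    NF.conj (LJ_le_normalizer_VNJ R J hg) fun _ hx h => fix_VNJ R ht hf hx h⟩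

end

/-! ### Chevalley groups -/

section

variable {D : ChevalleyDatum} {l : ℕ} {M : CoxeterMatrix (Fin l)} (hp : IsType D l M)

include hp in
theorem noFix_ch {K : Type u} [Field K] {J : Set (Fin l)} {t : ↥(D.group K)} (ht : t ∈ TT D K)
    (hne : ∀ r < D.nroots, (∃ k, k ∉ J ∧ vec D l r k ≠ 0) → ch hp (vec D l r) t ≠ 1) :
    NoFix M.toCoxeterSystem hp.isCartan (XX D l K) J t := by
  intro x hx hk a ha hsa
  obtain ⟨r, hr, rfl⟩ := (isRoot_iff hp _ x).1 hx
  obtain ⟨c, rfl⟩ := (mem_XX hp hr a).1 ha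
  rw [(act hp hr ht).2] at hsa
  have h3 := xc_inj hp hr hsa
  by_cases hc : c = 0
  · rw [hc, Cfsg.Agent.H162.GaussExc.xc_zero hp hr]
  · exfalso
    exact hne r hr hk (mul_right_cancel₀ hc (by rw [h3, one_mul]))

theorem ch_th {K : Type u} [Field K] {r : ℕ} (hr : r < D.nroots) (t : Fin l → Kˣ) :
    ch hp (vec D l r) (th hp t) = ∏ i, ((t i : Kˣ) : K) ^ D.cartan i r := by
  have h1 := chH_thT hp hr t
  rw [← h1]
  rfl

/-! #### Base change -/

theorem map_group_le (D : ChevalleyDatum) {K : Type u} {K' : Type v} [Field K] [Field K'] (ι : K →+* K') :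
    (D.group K).map (Matrix.GeneralLinearGroup.map (n := D.Idx) ι) ≤ D.group K' := by
  rw [ChevalleyDatum.group, MonoidHom.map_closure, ChevalleyDatum.group]
  refine Subgroup.closure_mono ?_
  rintro _ ⟨h, ⟨r, t, hh⟩, rfl⟩
  refine ⟨r, ι t, ?_⟩
  change ((h : Matrix D.Idx D.Idx K)).map ι = _
  rw [hh]
  exact Cfsg.Agent.ChevalleyStructure.FieldIso.map_xMat D ι r t

/-- the base change homomorphism -/
noncomputable def bc (D : ChevalleyDatum) {K : Type u} {K' : Type v} [Field K] [Field K'] (ι : K →+* K') :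
    ↥(D.group K) →* ↥(D.group K') :=
  ((Matrix.GeneralLinearGroup.map (n := D.Idx) ι).comp (D.group K).subtype).codRestrict (D.group K')
    fun x => map_group_le D ι ⟨x, x.2, rfl⟩

theorem bc_injective (D : ChevalleyDatum) {K : Type u} {K' : Type v} [Field K] [Field K'] (ι : K →+* K') :
    Function.Injective (bc D ι) := by
  intro x y h
  have h1 := congrArg (fun g : ↥(D.group K') => ((g : GL D.Idx K') : Matrix D.Idx D.Idx K')) h
  change (((x : GL D.Idx K) : Matrix D.Idx D.Idx K)).map ι = (((y : GL D.Idx K) : Matrix D.Idx D.Idx K)).map ι at h1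
  apply Subtype.ext
  apply Units.ext
  exact Matrix.map_injective ι.injective h1

variable {K : Type u} {K' : Type v} [Field K] [Field K'] (ι : K →+* K')

theorem bc_xc {r : ℕ} (hr : r < D.nroots) (a : K) :
    bc D ι (xc hp (vec D l r) a) = xc hp (vec D l r) (ι a) := by
  apply Subtype.ext
  apply Units.ext
  change ((((xc hp (vec D l r) a : ↥(D.group K)) : GL D.Idx K) : Matrix D.Idx D.Idx K)).map ι = _
  rw [coe_xc hp hr, coe_xc hp hr, coe_xG, coe_xG, x_of_lt hr, x_of_lt hr]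
  exact Cfsg.Agent.ChevalleyStructure.FieldIso.map_xMat D ι _ a

include hp in
theorem XX_le_comap {x : Fin l → ℤ} (hx : IsRoot M.toCoxeterSystem hp.isCartan x) :
    XX D l K x ≤ (XX D l K' x).comap (bc D ι) := by
  obtain ⟨r, hr, rfl⟩ := (isRoot_iff hp _ x).1 hx
  intro y hy
  obtain ⟨a, rfl⟩ := (mem_XX hp hr y).1 hy
  rw [Subgroup.mem_comap, bc_xc hp ι hr]
  exact (mem_XX hp hr _).2 ⟨_, rfl⟩

include hp in
theorem VJ_le_comap (J : Set (Fin l)) :
    VJ M.toCoxeterSystem hp.isCartan (XX D l K) J ≤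
      (VJ M.toCoxeterSystem hp.isCartan (XX D l K') J).comap (bc D ι) := by
  refine RGD.Sup_le fun x hx => ?_
  refine (XX_le_comap hp ι hx.1).trans (Subgroup.comap_mono ?_)
  exact RGD.le_Sup hx

include hp in
theorem VNJ_le_comap (J : Set (Fin l)) :
    VNJ M.toCoxeterSystem hp.isCartan (XX D l K) J ≤
      (VNJ M.toCoxeterSystem hp.isCartan (XX D l K') J).comap (bc D ι) := by
  refine RGD.Sup_le fun x hx => ?_
  refine (XX_le_comap hp ι ?_).trans (Subgroup.comap_mono ?_)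
  · have h1 := hx.1
    have h2 := h1.neg
    rwa [_root_.neg_neg] at h2
  exact RGD.le_Sup hx

end

end Cfsg.Agent.H928.Ore.Fix
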