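import Cfsg.Agent.H928.Ore.TwS

/-!
The block and the involution of `²E₆(q)` (S2443, S4171).

* `exists_f` : the homomorphism `f : SL₃(k) → ²E₆(q)` of the block `{1, 3}`; `f_LJ`, `up_f`, `lo_f`;
* `exists_z` : an involution `z ∈ ²E₆(q)` over the longest element.
-/

set_option autoImplicit false
set_option linter.unusedSectionVars false

namespace Cfsg.Agent.H928.Ore.TwF

open CoxeterSystem Cfsg.Agent.ChevalleyStructure.CoxeterGeom Cfsg.Agent.Tits.Roots Cfsg.Agent.Tits.Core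
  Cfsg.Agent.Nodes Cfsg.Agent.Nodes.Reps Cfsg.Agent.Nodes.BNOf Cfsg.Agent.Nodes.RGDLib Cfsg.Agent.Nodes.Bruhat
  Cfsg.Agent.Nodes.OppDec Cfsg.Agent.Nodes.LeviDec Cfsg.Agent.Nodes.StabComb Cfsg.Agent.Nodes.KindChev
  Cfsg.Agent.Nodes.ChevCls
  Cfsg.Agent.OddHalf.NI.ModelChev
  Cfsg.Agent.H162.GaussDec Cfsg.Agent.H162.GaussLevi Cfsg.Agent.H162.GaussSL Cfsg.Agent.H162.GaussReg
  Cfsg.Agent.H928.Ore.Frame Cfsg.Agent.H928.Ore.Fix Cfsg.Agent.H928.Ore.Block Cfsg.Agent.H928.Ore.TwE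
  Cfsg.Agent.H928.Ore.TwS
open Cfsg.Lie Cfsg.Agent.ChevalleyStructure Cfsg.Agent.ChevalleyStructure.Elts
  Cfsg.Agent.ChevalleyStructure.NPerm
  Cfsg.Agent.ChevalleyStructure.CoxeterGeomTypes Cfsg.Agent.Nodes.RGDChev Cfsg.Agent.KFacts.RgdChevCoord
open Cfsg.Agent.Nodes.RGDTwGen Cfsg.Agent.Nodes.RGDFold Cfsg.Agent.Nodes.RGDTwE6
open Cfsg.Agent.Nodes.RGDFoldSL (Fx mem_Fx)
open Cfsg.Agent.ChevalleyStructure.TwistedU Cfsg.Agent.ChevalleyStructure.TwistedFix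
open Cfsg.Agent.ChevalleyStructure.TwE6Basic (sg hE6 epsE)
open Cfsg.Agent.FixBN.FieldRGD (uu vv dd ww)
open Cfsg.Agent.H162.GaussExcMain (r6 rt6 chk6 chk6' chk6'' exists_hom_D w6)
open Cfsg.Agent.H162.GaussExc (fr fr_vec)
open Cfsg.Agent.H335.Sr
open Cfsg.Agent.H162.GaussPQ (tv_mem_UT tv_mem_LT)
open scoped MatrixGroups

universe u

/-! ### The tables -/

theorem rlt : ∀ a b, a ≠ b → r6 a b < 72 := by decide +kernel

theorem rho_r6 : ∀ a b, a ≠ b → H91.E6Fix.rho (r6 a b) = r6 a b ∧ ∀ h, epsE ⟨r6 a b, h⟩ = 1 := by decide +kernel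

theorem V_r6 : ∀ a b : Fin 3, a ≠ b → V chevE6 J (r6 a b) 2 = 0 ∧ V chevE6 J (r6 a b) 3 = 0 := by decide +kernel

theorem V_sub : ∀ s : Fin 72, V chevE6 J s 2 = 0 → V chevE6 J s 3 = 0 → ∃ a b : Fin 3, a ≠ b ∧ r6 a b = s ∧
    (a < b → ∃ k, 0 < V chevE6 J s k) ∧ (b < a → ∃ k, V chevE6 J s k < 0) ∧
    ∀ s' : Fin 72, V chevE6 J s' = V chevE6 J s → s' = s := by decide +kernel

theorem w6_simple : ∀ i : Fin 6, fr chevE6 w6 (chevE6.simple i) = chevE6.neg (chevE6.simple (ga i)) := by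
  decide +kernel

theorem map_tv {R S : Type*} [Field R] [Field S] (g : R →+* S) {n : ℕ} {a b : Fin n} (hab : a ≠ b) (c : R) :
    Matrix.SpecialLinearGroup.map g (Matrix.SpecialLinearGroup.transvection hab c) =
      Matrix.SpecialLinearGroup.transvection hab (g c) := by
  apply Subtype.ext
  change ((1 + Matrix.single a b c : Matrix (Fin n) (Fin n) R)).map g = 1 + Matrix.single a b (g c)
  ext i j
  rw [Matrix.map_apply, Matrix.add_apply, Matrix.add_apply, map_add]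
  congr 1
  · by_cases h : i = j
    · subst h; simp
    · simp [h]
  · rw [Matrix.single_apply, Matrix.single_apply]
    split_ifs <;> simp

section

variable {K : Type u} [Field K] [Fintype K] {φ : K →+* K} {q : ℕ} (hφ : ∀ t, φ t = t ^ q)
  (hqq : ∀ t : K, (t ^ q) ^ q = t)

include hφ hqq

/-! ### The involution -/

theorem exists_z (hZ : Subgroup.center ↥(chevE6.group K) = ⊥) :
    ∃ z : ↥(twistedE6 K q), ZD RGDTwE6.hp CoxeterMatrix.E₆.toCoxeterSystem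
      (CoxeterMatrix.E₆.toCoxeterSystem.wordProd w6) ga (fun _ => 1) (inc K q z) := by
  obtain ⟨p, hpc⟩ := CharP.exists K
  have : Fact p.Prime := ⟨(CharP.char_is_prime_or_zero K p).resolve_right (CharP.char_ne_zero_of_finite K p)⟩
  have R := RGDChev.rgd (K := K) RGDTwE6.hp CoxeterMatrix.E₆.toCoxeterSystem p
  have hw : ∀ i, rep CoxeterMatrix.E₆.toCoxeterSystem RGDTwE6.hp.isCartan
      (CoxeterMatrix.E₆.toCoxeterSystem.wordProd w6) (sr i) = -sr (ga i) := by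
    intro i
    have hi := simple_lt RGDTwE6.hp.inList (lt_rank RGDTwE6.hp i)
    rw [← vec_simple RGDTwE6.hp i, ← fr_vec RGDTwE6.hp _ w6 hi, w6_simple i,
      vec_neg RGDTwE6.hp (simple_lt RGDTwE6.hp.inList (lt_rank RGDTwE6.hp (ga i))), vec_simple RGDTwE6.hp (ga i)]
  obtain ⟨z, Z⟩ := exists_ZD (K := K) RGDTwE6.hp CoxeterMatrix.E₆.toCoxeterSystem R.nsys (γ := ga) ga_ga hw
    H129.TorusChar.invC_E6 (by decide) (fun _ => 1) (fun _ => .inl rfl) (fun _ => rfl)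
  have hφφ : ∀ t : K, φ (φ t) = t := fun t => by rw [hφ, hφ, hqq]
  have h1 : sgY φ z = z := by
    refine ext_simple RGDTwE6.hp hZ (fun i t => ?_) (fun i t => ?_)
    · have e1 := sgY_pos φ (ga i) (φ t)
      rw [ga_ga, hφφ] at e1
      rw [Z.pos i t, ← e1, ← map_inv, ← map_mul, ← map_mul, Z.pos (ga i) (φ t), ga_ga, sgY_neg, map_mul, map_intCast,
        hφφ]
    · have e1 := sgY_neg φ (ga i) (φ t)
      rw [ga_ga, hφφ] at e1
      rw [Z.neg i t, ← e1, ← map_inv, ← map_mul, ← map_mul, Z.neg (ga i) (φ t), ga_ga, sgY_pos, map_mul, map_intCast,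
        hφφ]
  obtain ⟨g, rfl⟩ := exists_inc hφ hqq h1
  exact ⟨g, Z⟩

/-! ### The block -/

theorem exists_f {P : Matrix.SpecialLinearGroup (Fin 3) K →* ↥(chevE6.group K)}
    (hP : ∀ a b (hab : a ≠ b) c, P (Matrix.SpecialLinearGroup.transvection hab c) =
      xc RGDTwE6.hp (vec chevE6 6 (r6 a b)) (((1 : ℤ) : K) * c)) :
    ∃ f : Matrix.SpecialLinearGroup (Fin 3) (Fx φ 1) →* ↥(twistedE6 K q), ∀ A,
      inc K q (f A) = P (Matrix.SpecialLinearGroup.map (Fx φ 1).subtype A) := by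
  have h1 : ∀ A : Matrix.SpecialLinearGroup (Fin 3) (Fx φ 1),
      sgY φ (P (Matrix.SpecialLinearGroup.map (Fx φ 1).subtype A)) =
        P (Matrix.SpecialLinearGroup.map (Fx φ 1).subtype A) := by
    have h2 : (sgY φ).comp (P.comp (Matrix.SpecialLinearGroup.map (Fx φ 1).subtype)) =
        P.comp (Matrix.SpecialLinearGroup.map (Fx φ 1).subtype) := by
      refine hom_ext fun a b hab c => ?_
      change sgY φ (P (Matrix.SpecialLinearGroup.map (Fx φ 1).subtype _)) =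
        P (Matrix.SpecialLinearGroup.map (Fx φ 1).subtype _)
      have hc : φ (c : K) = c := mem_Fx.1 c.2
      rw [map_tv, hP, sgY_xc φ (rlt a b hab), (rho_r6 a b hab).1, (rho_r6 a b hab).2]
      congr 1
      rw [Int.cast_one, one_mul, one_mul]
      exact hc
    exact fun A => DFunLike.congr_fun h2 A
  refine ⟨((chevE6.group K).subtype.comp (P.comp (Matrix.SpecialLinearGroup.map (Fx φ 1).subtype))).codRestrict
    (twistedE6 K q) (fun A => ?_), fun A => rfl⟩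
  refine H91.E6Fix.mem_twisted_of_fixed hφ (fun t => by rw [hφ, hφ, hqq])
    (P (Matrix.SpecialLinearGroup.map (Fx φ 1).subtype A)).2 ?_
  exact congrArg Subtype.val (h1 A)

variable {P : Matrix.SpecialLinearGroup (Fin 3) K →* ↥(chevE6.group K)}
    (hP : ∀ a b (hab : a ≠ b) c, P (Matrix.SpecialLinearGroup.transvection hab c) =
      xc RGDTwE6.hp (vec chevE6 6 (r6 a b)) (((1 : ℤ) : K) * c))
    {f : Matrix.SpecialLinearGroup (Fin 3) (Fx φ 1) →* ↥(twistedE6 K q)}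
    (hf : ∀ A, inc K q (f A) = P (Matrix.SpecialLinearGroup.map (Fx φ 1).subtype A))
    {W : Type*} [Group W] (cs : CoxeterSystem CoxeterMatrix.F₄ W)

include hP hf

omit hφ hqq [Fintype K] in
theorem f_tv {a b : Fin 3} (hab : a ≠ b) (c : Fx φ 1) :
    inc K q (f (Matrix.SpecialLinearGroup.transvection hab c)) = xc RGDTwE6.hp (vec chevE6 6 (r6 a b)) (c : K) := by
  rw [hf, map_tv, hP, Int.cast_one, one_mul]
  rfl

theorem f_X {a b : Fin 3} (hab : a ≠ b) (c : Fx φ 1) :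
    f (Matrix.SpecialLinearGroup.transvection hab c) ∈ X φ q (V chevE6 J (r6 a b)) := by
  have h1 := congrArg (Subtype.val) (f_tv hP hf hab c)
  rw [coe_xc RGDTwE6.hp (rlt a b hab)] at h1
  refine Subgroup.mem_subgroupOf.2 ⟨?_, ?_⟩
  · have h2 : ((f (Matrix.SpecialLinearGroup.transvection hab c) : ↥(twistedE6 K q)) : GL chevE6.Idx K) =
        xG RGDTwE6.hp.inList (r6 a b) (c : K) := h1
    rw [h2]
    exact mem_rspan (xG (F := K) RGDTwE6.hp.inList) (S := {k | k < chevE6.nroots ∧ V chevE6 J k = V chevE6 J (r6 a b)})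
      ⟨rlt a b hab, rfl⟩ _
  · exact TwE6Basic.twisted_le_fix φ hφ hqq (f (Matrix.SpecialLinearGroup.transvection hab c)).2

theorem f_LJ (A : Matrix.SpecialLinearGroup (Fin 3) (Fx φ 1)) :
    f A ∈ LJ cs RGDTwE6.isCartan (T K q) (X φ q) JR := by
  have h1 : (⊤ : Subgroup (Matrix.SpecialLinearGroup (Fin 3) (Fx φ 1))) ≤
      (LJ cs RGDTwE6.isCartan (T K q) (X φ q) JR).comap f := by
    rw [← Cfsg.Agent.LieClassical.SLGen.closure_transvections, Subgroup.closure_le]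
    rintro _ ⟨a, b, hab, c, rfl⟩
    change f _ ∈ LJ cs RGDTwE6.isCartan (T K q) (X φ q) JR
    refine X_le_LJ (J := JR) (x := V chevE6 J (r6 a b)) ⟨RGDTwComE6.isRoot_V (rlt a b hab), fun k hk => ?_⟩
      (f_X hφ hqq hP hf hab c)
    have hk' : k = 2 ∨ k = 3 := by
      have h : ∀ k : Fin 4, ¬ (k = 0 ∨ k = 1) → k = 2 ∨ k = 3 := by decide
      exact h k hk
    rcases hk' with rfl | rfl
    · exact (V_r6 a b hab).1
    · exact (V_r6 a b hab).2
  exact h1 (Subgroup.mem_top A)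

theorem X_eq_f {z : Fin 4 → ℤ} (hz : IsRoot cs RGDTwE6.isCartan z) (h2 : ∀ k, k ∉ JR → z k = 0) :
    ∃ a b : Fin 3, ∃ hab : a ≠ b, (a < b → ∃ k, 0 < z k) ∧ (b < a → ∃ k, z k < 0) ∧
      ∀ y ∈ X φ q z, ∃ c : Fx φ 1, y = f (Matrix.SpecialLinearGroup.transvection hab c) := by
  obtain ⟨i, hi, e, hiz⟩ := RGDTwActE6.index (cs := cs) hz
  have hlt : (RGDTwCoordE6.O.getD i []).headD 0 < 72 := by
    have h : ∀ i < 48, (RGDTwCoordE6.O.getD i []).headD 0 < 72 := by decide +kernel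
    exact h i hi
  have hk2 : z 2 = 0 := h2 2 (by rintro (h | h) <;> exact absurd h (by decide))
  have hk3 : z 3 = 0 := h2 3 (by rintro (h | h) <;> exact absurd h (by decide))
  obtain ⟨a, b, hab, hr, hp1, hp2, huniq⟩ := V_sub ⟨_, hlt⟩ (by
    change V chevE6 J ((RGDTwCoordE6.O.getD i []).headD 0) 2 = 0
    rw [hiz]; exact hk2) (by
    change V chevE6 J ((RGDTwCoordE6.O.getD i []).headD 0) 3 = 0
    rw [hiz]; exact hk3)
  have hr' : r6 a b = (RGDTwCoordE6.O.getD i []).headD 0 := hr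
  refine ⟨a, b, hab, fun h => ?_, fun h => ?_, fun y hy => ?_⟩
  · obtain ⟨k, hk⟩ := hp1 h
    refine ⟨k, ?_⟩
    rw [← hiz]
    exact hk
  · obtain ⟨k, hk⟩ := hp2 h
    refine ⟨k, ?_⟩
    rw [← hiz]
    exact hk
  · have h3 : y ∈ (XX chevE6 6 K (vec chevE6 6 (r6 a b))).comap (inc K q) := by
      refine X_le (φ := φ) (z := z) (fun r hr1 hr2 => ?_) hy
      have h4 : (⟨r, hr1⟩ : Fin 72) = ⟨_, hlt⟩ := huniq ⟨r, hr1⟩ (hr2.trans hiz.symm)
      have h5 : r = r6 a b := by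
        rw [hr']
        exact congrArg Fin.val h4
      rw [h5]
    obtain ⟨c, hc⟩ := (mem_XX RGDTwE6.hp (rlt a b hab) _).1 h3
    have h6 := sgY_inc hφ hqq y
    rw [hc, sgY_xc φ (rlt a b hab), (rho_r6 a b hab).1, (rho_r6 a b hab).2, Int.cast_one, one_mul] at h6
    have h7 := xc_inj RGDTwE6.hp (rlt a b hab) h6
    refine ⟨⟨c, mem_Fx.2 h7⟩, ?_⟩
    apply inc_injective q
    rw [f_tv hP hf, hc]

theorem up_f : UJ cs RGDTwE6.isCartan (X φ q) JR ≤ (UT 3 (Fx φ 1)).map f := by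
  refine RGD.Sup_le fun z hz => ?_
  obtain ⟨a, b, hab, -, h2, h3⟩ := X_eq_f hφ hqq hP hf cs hz.1 hz.2.2
  have hlt : a < b := by
    rcases lt_or_gt_of_ne hab with h | h
    · exact h
    · obtain ⟨k, hk⟩ := h2 h
      exact absurd (hz.2.1 k) (not_le.2 hk)
  intro y hy
  obtain ⟨c, rfl⟩ := h3 y hy
  exact ⟨_, tv_mem_UT hab hlt _, rfl⟩

theorem lo_f : UNJ cs RGDTwE6.isCartan (X φ q) JR ≤ (LT 3 (Fx φ 1)).map f := by
  refine RGD.Sup_le fun z hz => ?_
  have hz' : IsRoot cs RGDTwE6.isCartan z := by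
    have := hz.1.neg
    rwa [_root_.neg_neg] at this
  obtain ⟨a, b, hab, h1, -, h3⟩ := X_eq_f hφ hqq hP hf cs hz' (fun k hk => by
    have := hz.2.2 k hk
    simpa using this)
  have hlt : b < a := by
    rcases lt_or_gt_of_ne hab with h | h
    · obtain ⟨k, hk⟩ := h1 h
      have h3 : 0 ≤ - z k := hz.2.1 k
      omega
    · exact h
  intro y hy
  obtain ⟨c, rfl⟩ := h3 y hy
  exact ⟨_, tv_mem_LT hab hlt _, rfl⟩

end

end Cfsg.Agent.H928.Ore.TwF
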