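import Cfsg.Agent.H928.Ore.TwRow
import Cfsg.Agent.H374.Ore.Sl3

/-!
`²E₆(2)`, `²E₆(3)` and the reduction of `²E₆(q)`, `q ≥ 4`, to the product lemma for `SL₃(q)` (S2443, S4171).
-/

set_option autoImplicit false

namespace Cfsg.Agent.H928.Ore.TwFin

open Cfsg.Lie Cfsg.Agent.ChevalleyStructure
open Cfsg.Agent.Nodes.RGDFoldSL (Fx mem_Fx)
open Cfsg.Agent.H928.Ore.TwRow
open Cfsg.Agent.H194.Ore (M3)
open Cfsg.Agent.H777.Ore (AllC Inv4)

universe u

theorem card_Fx {K : Type u} [Field K] [Fintype K] {q : ℕ} (hq : 1 < q) (hK : Fintype.card K = q ^ 2) {φ : K →+* K}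
    (hφ : ∀ x, φ x = x ^ q) : Nat.card (Fx φ 1) = q := by
  have h1 : Nat.card (Fx φ 1)ˣ = q - 1 := by
    rw [← D4H1.card_fixed hq hK hφ]
    refine Nat.card_congr
      { toFun := fun u => (⟨Units.map ((Fx φ 1).subtype : Fx φ 1 →* K) u, mem_Fx.1 (u : Fx φ 1).2⟩ :
          {b : Kˣ // φ b = b})
        invFun := fun b =>
          ⟨⟨(b : Kˣ), mem_Fx.2 b.2⟩, ⟨((b : Kˣ)⁻¹ : Kˣ), mem_Fx.2 (by
            show φ ((b : Kˣ)⁻¹ : Kˣ) = ((b : Kˣ)⁻¹ : Kˣ)
            rw [Units.val_inv_eq_inv_val, map_inv₀, b.2])⟩,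
            Subtype.ext (by simp), Subtype.ext (by simp)⟩
        left_inv := fun u => by ext; rfl
        right_inv := fun b => by ext; rfl }
  rw [Nat.card_units] at h1
  have h2 : 0 < Nat.card (Fx φ 1) := Nat.card_pos
  omega

/-- `SL₃(2)`, `SL₃(3)` -/
theorem m3_small {F : Type*} [Field F] [Finite F] (hF : Nat.card F = 2 ∨ Nat.card F = 3) : M3 F :=
  fun _ hL _ hU => Cfsg.Agent.H374.Ore.Sl3.m3 hF hL hU

/-- **The rows `²E₆(2)` and `²E₆(3)`.** -/
theorem row_small {K : Type u} [Field K] [Fintype K] {q : ℕ} (hq : q = 2 ∨ q = 3) (hK : Fintype.card K = q ^ 2) :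
    AllC ↥(twistedE6 K q) ∧ Inv4 ↥(twistedE6 K q) := by
  have hq' : IsPrimePow q := by
    rcases hq with rfl | rfl
    · exact Nat.prime_two.isPrimePow
    · exact Nat.prime_three.isPrimePow
  refine row_of hq' hK fun φ hφ => m3_small ?_
  rw [card_Fx hq'.one_lt hK hφ]
  exact hq

/-- **The row `²E₆(q)`**, from the product lemma for `SL₃(F)`, `|F| ≥ 4`. -/
theorem row_all {K : Type u} [Field K] [Fintype K] {q : ℕ} (hq : IsPrimePow q) (hK : Fintype.card K = q ^ 2)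
    (hm3 : ∀ (F : Type u) [Field F] [Finite F], 4 ≤ Nat.card F → M3 F) :
    AllC ↥(twistedE6 K q) ∧ Inv4 ↥(twistedE6 K q) := by
  by_cases h : q = 2 ∨ q = 3
  · exact row_small h hK
  · refine row_of hq hK fun φ hφ => hm3 _ ?_
    rw [card_Fx hq.one_lt hK hφ]
    have := hq.one_lt
    omega

end Cfsg.Agent.H928.Ore.TwFin
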