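import Cfsg.Agent.H928.Ore.TwF
import Cfsg.Agent.H374.Ore.Nf
import Cfsg.Agent.ChevalleyStructure.D4H1

/-!
Fixed points, action of the involution in `²E₆(q)` (S2443, S4171).

* `nfA` : `s₀ φ(X)` has no fixed points on the unipotent radicals, `X ∈ SL₃(K)` with irreducible characteristic polynomial;
* `irr_map` : an irreducible cubic over the fixed field `k` is irreducible over `K`;
* `z_sl`, `z_f` : the action of the involution `z`;
* `exists_norm_one` : an element of norm one and order at least three.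
-/

set_option autoImplicit false
set_option linter.unusedSectionVars false

namespace Cfsg.Agent.H928.Ore.TwN

open CoxeterSystem Cfsg.Agent.ChevalleyStructure.CoxeterGeom Cfsg.Agent.Tits.Roots Cfsg.Agent.Tits.Core
  Cfsg.Agent.Nodes Cfsg.Agent.Nodes.Reps Cfsg.Agent.Nodes.BNOf Cfsg.Agent.Nodes.RGDLib Cfsg.Agent.Nodes.Bruhat
  Cfsg.Agent.Nodes.OppDec Cfsg.Agent.Nodes.LeviDec Cfsg.Agent.Nodes.StabComb Cfsg.Agent.Nodes.KindChev
  Cfsg.Agent.Nodes.ChevCls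
  Cfsg.Agent.OddHalf.NI.ModelChev
  Cfsg.Agent.H162.GaussDec Cfsg.Agent.H162.GaussLevi Cfsg.Agent.H162.GaussSL Cfsg.Agent.H162.GaussReg
  Cfsg.Agent.H928.Ore.Frame Cfsg.Agent.H928.Ore.Fix Cfsg.Agent.H928.Ore.Block Cfsg.Agent.H928.Ore.TwE
  Cfsg.Agent.H928.Ore.TwS Cfsg.Agent.H928.Ore.TwF
open Cfsg.Lie Cfsg.Agent.ChevalleyStructure Cfsg.Agent.ChevalleyStructure.Elts
  Cfsg.Agent.ChevalleyStructure.NPerm
  Cfsg.Agent.ChevalleyStructure.CoxeterGeomTypes Cfsg.Agent.Nodes.RGDChev Cfsg.Agent.KFacts.RgdChevCoord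
open Cfsg.Agent.Nodes.RGDTwGen Cfsg.Agent.Nodes.RGDFold Cfsg.Agent.Nodes.RGDTwE6
open Cfsg.Agent.Nodes.RGDFoldSL (Fx mem_Fx)
open Cfsg.Agent.ChevalleyStructure.TwE6Basic (sg hE6 epsE)
open Cfsg.Agent.FixBN.FieldRGD (uu vv dd ww)
open Cfsg.Agent.H162.GaussExcMain (r6 rt6 chk6 chk6' chk6'' exists_hom_D w6)
open Cfsg.Agent.H162.GaussExc (fr fr_vec)
open Cfsg.Agent.H335.Sr
open Cfsg.Agent.H374.Ore.Nf (Wt nf_dg)
open scoped MatrixGroups

universe u

/-! ### Tables -/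

theorem tab_out : ∀ s : Fin 72, (∃ k : Fin 6, (k ≠ 1 ∧ k ≠ 3) ∧ vec chevE6 6 s k ≠ 0) →
    (chevE6.cartan (3 : Fin 6) s = 0 ∧ chevE6.cartan (1 : Fin 6) s = 0 ∧
      (chevE6.cartan (0 : Fin 6) s - chevE6.cartan (5 : Fin 6) s = 1 ∨
       chevE6.cartan (0 : Fin 6) s - chevE6.cartan (5 : Fin 6) s = -1 ∨
       chevE6.cartan (0 : Fin 6) s - chevE6.cartan (5 : Fin 6) s = 2 ∨
       chevE6.cartan (0 : Fin 6) s - chevE6.cartan (5 : Fin 6) s = -2)) ∨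
    Wt (chevE6.cartan (3 : Fin 6) s) (chevE6.cartan (1 : Fin 6) s) := by decide +kernel

theorem tab_blk : ∀ a b : Fin 3, a ≠ b → chevE6.cartan (0 : Fin 6) (r6 a b) = 0 ∧
    chevE6.cartan (5 : Fin 6) (r6 a b) = 0 ∧ ∀ k : Fin 6, k ≠ 1 ∧ k ≠ 3 → vec chevE6 6 (r6 a b) k = 0 := by
  decide +kernel

theorem simple_r6 : r6 0 1 = chevE6.simple (3 : Fin 6) ∧ r6 1 2 = chevE6.simple (1 : Fin 6) := by decide +kernel

theorem prod_s0 {K : Type*} [Field K] (l : Kˣ) (s : ℕ) :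
    ∏ k : Fin 6, (((Pi.mulSingle (0 : Fin 6) l * Pi.mulSingle (5 : Fin 6) l⁻¹ : Fin 6 → Kˣ) k : Kˣ) : K) ^
      chevE6.cartan k s = (l : K) ^ (chevE6.cartan (0 : Fin 6) s - chevE6.cartan (5 : Fin 6) s) := by
  have e2 : ∀ (i : Fin 6) (u : Kˣ), ∏ k, (((Pi.mulSingle i u : Fin 6 → Kˣ) k : Kˣ) : K) ^ chevE6.cartan k s =
      (u : K) ^ chevE6.cartan i s := by
    intro i u
    rw [Finset.prod_eq_single i]
    · rw [Pi.mulSingle_eq_same]
    · intro k _ hk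
      rw [Pi.mulSingle_eq_of_ne hk, Units.val_one, _root_.one_zpow]
    · intro hi; exact absurd (Finset.mem_univ i) hi
  have e3 : ∏ k : Fin 6, (((Pi.mulSingle (0 : Fin 6) l * Pi.mulSingle (5 : Fin 6) l⁻¹ : Fin 6 → Kˣ) k : Kˣ) : K) ^
      chevE6.cartan k s = (l : K) ^ chevE6.cartan (0 : Fin 6) s * ((l⁻¹ : Kˣ) : K) ^ chevE6.cartan (5 : Fin 6) s := by
    rw [← e2 0 l, ← e2 5 l⁻¹, ← Finset.prod_mul_distrib]
    refine Finset.prod_congr rfl fun k _ => ?_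
    rw [Pi.mul_apply, Units.val_mul, mul_zpow]
  rw [e3, Units.val_inv_eq_inv_val, inv_zpow, ← zpow_neg, ← zpow_add₀ l.ne_zero, sub_eq_add_neg]

theorem mem_JA {k : Fin 6} (h : k ∉ JA) : k ≠ 1 ∧ k ≠ 3 := ⟨fun h1 => h (Or.inl h1), fun h1 => h (Or.inr h1)⟩

/-- the diagonalisation over an extension field -/
def DG (K : Type u) [Field K] (X : Matrix.SpecialLinearGroup (Fin 3) K) : Prop :=
  ∃ (K' : Type u) (_ : Field K') (_ : Finite K') (ι : K →+* K') (a b : K'ˣ) (P : Matrix.SpecialLinearGroup (Fin 3) K'),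
    Matrix.SpecialLinearGroup.map ι X = P * dg3 a b * P⁻¹ ∧ (a : K') ∉ Set.range ι ∧
      ((a⁻¹ * b : K'ˣ) : K') ∉ Set.range ι ∧ ((b⁻¹ : K'ˣ) : K') ∉ Set.range ι

/-- **No fixed points.** -/
theorem nfA {K : Type u} [Field K] {P : Matrix.SpecialLinearGroup (Fin 3) K →* ↥(chevE6.group K)}
    (hP : ∀ a b (hab : a ≠ b) c, P (Matrix.SpecialLinearGroup.transvection hab c) =
      xc RGDTwE6.hp (vec chevE6 6 (r6 a b)) (((1 : ℤ) : K) * c)) {l : Kˣ} (h1 : l ≠ 1) (h2 : l * l ≠ 1)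
    {X : Matrix.SpecialLinearGroup (Fin 3) K} (hX : DG K X) :
    NF (VJ CoxeterMatrix.E₆.toCoxeterSystem RGDTwE6.hp.isCartan (XX chevE6 6 K) JA) (s0 l * P X) ∧
      NF (VNJ CoxeterMatrix.E₆.toCoxeterSystem RGDTwE6.hp.isCartan (XX chevE6 6 K) JA) (s0 l * P X) := by
  obtain ⟨K', _, _, ι, a, b, Q, hQ, ha, hab, hb⟩ := hX
  obtain ⟨P', hP'⟩ := exists_hom_D RGDTwE6.hp (K := K') (ε := 1) (by norm_num) rt6.1 rt6.2.1 rt6.2.2.1 rt6.2.2.2
  refine nf_dg RGDTwE6.hp ι (r := r6) (ε := 1) (by norm_num) rt6.1 rt6.2.2.2 hP hP' simple_r6.1 simple_r6.2 (J := JA)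
    (fun a b hab k hk => (tab_blk a b hab).2.2 k (mem_JA hk)) (fun a b hab => ?_) (fun s hs hk => ?_) hQ ha hab hb
  · rw [prod_s0, (tab_blk a b hab).1, (tab_blk a b hab).2.1, sub_zero, zpow_zero]
  · obtain ⟨k, hk, hk0⟩ := hk
    rcases tab_out ⟨s, hs⟩ ⟨k, mem_JA hk, hk0⟩ with ⟨e1, e2, e3⟩ | h
    · refine Or.inl ⟨e1, e2, ?_⟩
      rw [prod_s0]
      have hl1 : (l : K) ≠ 1 := fun h => h1 (Units.ext h)
      have hl2 : (l : K) * l ≠ 1 := fun h => h2 (Units.ext h)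
      have h0 : (l : K) ≠ 0 := l.ne_zero
      rcases e3 with e3 | e3 | e3 | e3
      · change (l : K) ^ (chevE6.cartan (0 : Fin 6) s - chevE6.cartan (5 : Fin 6) s) ≠ 1
        rw [show chevE6.cartan (0 : Fin 6) s - chevE6.cartan (5 : Fin 6) s = 1 from e3, zpow_one]
        exact hl1
      · change (l : K) ^ (chevE6.cartan (0 : Fin 6) s - chevE6.cartan (5 : Fin 6) s) ≠ 1
        rw [show chevE6.cartan (0 : Fin 6) s - chevE6.cartan (5 : Fin 6) s = -1 from e3, zpow_neg_one]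
        exact fun h => hl1 (inv_eq_one.1 h)
      · change (l : K) ^ (chevE6.cartan (0 : Fin 6) s - chevE6.cartan (5 : Fin 6) s) ≠ 1
        rw [show chevE6.cartan (0 : Fin 6) s - chevE6.cartan (5 : Fin 6) s = 2 from e3, zpow_two]
        exact hl2
      · change (l : K) ^ (chevE6.cartan (0 : Fin 6) s - chevE6.cartan (5 : Fin 6) s) ≠ 1
        rw [show chevE6.cartan (0 : Fin 6) s - chevE6.cartan (5 : Fin 6) s = -2 from e3, zpow_neg, zpow_two]
        exact fun h => hl2 (inv_eq_one.1 h)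
    · exact Or.inr h

/-! ### The fields -/

/-- an element of norm one which is not `±1` -/
theorem exists_norm_one {K : Type u} [Field K] [Fintype K] {φ : K →+* K} {q : ℕ} (hφ : ∀ t, φ t = t ^ q) (hq : 1 < q)
    (hK : Fintype.card K = q ^ 2) : ∃ l : Kˣ, φ l * l = 1 ∧ l ≠ 1 ∧ l * l ≠ 1 := by
  classical
  obtain ⟨t, ht⟩ := IsCyclic.exists_ofOrder_eq_natCard (α := Kˣ)
  have h2 : Nat.card Kˣ = q ^ 2 - 1 := by
    rw [Nat.card_eq_fintype_card, Fintype.card_units, hK]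
  have h3 : q ^ 2 - 1 = (q - 1) * (q + 1) := by
    obtain ⟨m, rfl⟩ : ∃ m, q = m + 2 := ⟨q - 2, by omega⟩
    have : (m + 2) ^ 2 - 1 = (m + 2 - 1) * (m + 2 + 1) := by
      have e : (m + 2) ^ 2 = (m + 1) * (m + 3) + 1 := by ring
      rw [e]
      simp
    exact this
  rw [h2, h3] at ht
  have hq1 : 0 < q - 1 := by omega
  refine ⟨t ^ (q - 1), ?_, fun h => ?_, fun h => ?_⟩
  · rw [hφ]
    have e : (t ^ (q - 1)) ^ (q + 1) = 1 := by
      rw [← pow_mul, ← ht, pow_orderOf_eq_one]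
    have e2 := congrArg (Units.val) e
    rw [Units.val_pow_eq_pow_val, Units.val_one, pow_succ] at e2
    exact e2
  · have h4 := orderOf_dvd_of_pow_eq_one h
    rw [ht] at h4
    have h5 := Nat.le_of_dvd hq1 h4
    nlinarith
  · rw [← pow_add] at h
    have h4 := orderOf_dvd_of_pow_eq_one h
    rw [ht] at h4
    have h5 := Nat.le_of_dvd (by omega) h4
    nlinarith

open Polynomial in
/-- an irreducible cubic over the fixed field is irreducible over `K` -/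
theorem irr_map {K : Type u} [Field K] {φ : K →+* K} (hφφ : ∀ t, φ (φ t) = t) {f : (Fx φ 1)[X]} (hf : Irreducible f)
    (hm : f.Monic) (h3 : f.natDegree = 3) : Irreducible (f.map (Fx φ 1).subtype) := by
  have hm' : (f.map (Fx φ 1).subtype).Monic := hm.map _
  have h3' : (f.map (Fx φ 1).subtype).natDegree = 3 := by rw [hm.natDegree_map, h3]
  rw [Polynomial.Monic.irreducible_iff_roots_eq_zero_of_degree_le_three hm' (by omega) (by omega)]
  by_contra hne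
  obtain ⟨x, hx⟩ := Multiset.exists_mem_of_ne_zero hne
  have hx' : aeval x f = 0 := by
    have := (mem_roots hm'.ne_zero).1 hx
    rw [IsRoot.def, eval_map] at this
    exact this
  -- the quadratic
  have h1 : φ (x + φ x) = x + φ x := by rw [map_add, hφφ, add_comm]
  have h2 : φ (x * φ x) = x * φ x := by rw [map_mul, hφφ, mul_comm]
  let a : Fx φ 1 := ⟨x + φ x, mem_Fx.2 h1⟩
  let b : Fx φ 1 := ⟨x * φ x, mem_Fx.2 h2⟩
  have hg : aeval x (Polynomial.X ^ 2 - C a * Polynomial.X + C b : (Fx φ 1)[X]) = 0 := by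
    rw [map_add, map_sub, map_pow, map_mul, aeval_X, aeval_C, aeval_C]
    change x ^ 2 - (x + φ x) * x + x * φ x = 0
    ring
  have hgm : (Polynomial.X ^ 2 - C a * Polynomial.X + C b : (Fx φ 1)[X]).natDegree ≤ 2 := by compute_degree
  have hg0 : (Polynomial.X ^ 2 - C a * Polynomial.X + C b : (Fx φ 1)[X]) ≠ 0 := by
    intro h
    have h4 := congrArg (fun p => p.coeff 2) h
    simp only [coeff_add, coeff_sub, coeff_X_pow, coeff_C_mul, coeff_X, coeff_C, coeff_zero] at h4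
    norm_num at h4
  have hmin : minpoly (Fx φ 1) x = f := (minpoly.eq_of_irreducible_of_monic hf hx' hm).symm
  have h4 := Polynomial.natDegree_le_of_dvd (minpoly.dvd (Fx φ 1) x hg) hg0
  rw [hmin, h3] at h4
  omega

/-! ### The action of the involution -/

section

variable {K : Type u} [Field K] {z : ↥(chevE6.group K)} {w : CoxeterMatrix.E₆.Group}
  (Z : ZD RGDTwE6.hp CoxeterMatrix.E₆.toCoxeterSystem w ga (fun _ => 1) z)

include Z

theorem z_sl (i : Fin 6) (A : SL(2, K)) : z * sl RGDTwE6.hp i A * z⁻¹ = sl RGDTwE6.hp (ga i) (rv2 A) := by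
  have h : (MulAut.conj z).toMonoidHom.comp (sl RGDTwE6.hp i) = (sl RGDTwE6.hp (ga i)).comp rv2 := by
    refine ext2 (fun a => ?_) (fun a => ?_)
    · change z * sl RGDTwE6.hp i (uu a) * z⁻¹ = sl RGDTwE6.hp (ga i) (rv2 (uu a))
      rw [rv2_uu, sl_uu, sl_vv, Z.pos, Int.cast_one, one_mul]
    · change z * sl RGDTwE6.hp i (vv a) * z⁻¹ = sl RGDTwE6.hp (ga i) (rv2 (vv a))
      rw [rv2_vv, sl_uu, sl_vv, Z.neg, Int.cast_one, one_mul]
  exact DFunLike.congr_fun h A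

theorem z_s0 (l : Kˣ) : z * s0 l * z⁻¹ = s0 l := by
  have h1 : z * s0 l * z⁻¹ = (z * sl RGDTwE6.hp (0 : Fin 6) (dd (l : K) l.ne_zero) * z⁻¹) *
      (z * sl RGDTwE6.hp (5 : Fin 6) (dd ((l⁻¹ : Kˣ) : K) l⁻¹.ne_zero) * z⁻¹) := by
    rw [s0_eq]; group
  rw [h1, z_sl Z, z_sl Z, rv2_dd, rv2_dd, s0_eq]
  change sl RGDTwE6.hp (5 : Fin 6) _ * sl RGDTwE6.hp (0 : Fin 6) _ = _
  rw [← sl_comm]
  congr 2
  · apply Subtype.ext
    change !![(((l⁻¹ : Kˣ) : K))⁻¹, 0; 0, (((l⁻¹ : Kˣ) : K))⁻¹⁻¹] = !![(l : K), 0; 0, (l : K)⁻¹]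
    rw [Units.val_inv_eq_inv_val, inv_inv]
  · apply Subtype.ext
    change !![(l : K)⁻¹, 0; 0, (l : K)⁻¹⁻¹] = !![((l⁻¹ : Kˣ) : K), 0; 0, ((l⁻¹ : Kˣ) : K)⁻¹]
    rw [Units.val_inv_eq_inv_val]

theorem z_mm : z * mm K * z⁻¹ = (mm K)⁻¹ := by
  have h1 : z * mm K * z⁻¹ = (z * sl RGDTwE6.hp (0 : Fin 6) (ww 1 one_ne_zero) * z⁻¹) *
      (z * sl RGDTwE6.hp (5 : Fin 6) (ww 1 one_ne_zero) * z⁻¹) := by
    unfold mm; group
  rw [h1, z_sl Z, z_sl Z, rv2_ww]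
  change sl RGDTwE6.hp (5 : Fin 6) _ * sl RGDTwE6.hp (0 : Fin 6) _ = _
  unfold mm
  rw [map_inv, map_inv, _root_.mul_inv_rev]

end

section

variable {K : Type u} [Field K] [Fintype K] {φ : K →+* K} {q : ℕ} (hφ : ∀ t, φ t = t ^ q)
  (hqq : ∀ t : K, (t ^ q) ^ q = t)

theorem fr_r6 : ∀ a b : Fin 3, a ≠ b → fr chevE6 w6 (r6 a b) = r6 b a := (chk6'.2.2.2)

variable {P : Matrix.SpecialLinearGroup (Fin 3) K →* ↥(chevE6.group K)}
    (hP : ∀ a b (hab : a ≠ b) c, P (Matrix.SpecialLinearGroup.transvection hab c) =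
      xc RGDTwE6.hp (vec chevE6 6 (r6 a b)) (((1 : ℤ) : K) * c))
    {f : Matrix.SpecialLinearGroup (Fin 3) (Fx φ 1) →* ↥(twistedE6 K q)}
    (hf : ∀ A, inc K q (f A) = P (Matrix.SpecialLinearGroup.map (Fx φ 1).subtype A))
    {z : ↥(twistedE6 K q)} (Z : ZD RGDTwE6.hp CoxeterMatrix.E₆.toCoxeterSystem
      (CoxeterMatrix.E₆.toCoxeterSystem.wordProd w6) ga (fun _ => 1) (inc K q z))

include hP hf Z

theorem z_f : ∃ (d : Fin 3 → Fx φ 1) (hd : ∀ a, d a * d a = 1), ∀ A, z * f A * z⁻¹ = f (tau d hd A) := by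
  have h0 : ∀ a b : Fin 3, ∃ e : ℤ, (e = 1 ∨ e = -1) ∧ (a ≠ b → ∀ t : K,
      inc K q z * xc RGDTwE6.hp (vec chevE6 6 (r6 a b)) t * (inc K q z)⁻¹ =
        xc RGDTwE6.hp (vec chevE6 6 (r6 b a)) ((e : K) * t)) := by
    intro a b
    by_cases hab : a = b
    · exact ⟨1, .inl rfl, fun h => absurd hab h⟩
    · obtain ⟨e, he, h1, -⟩ := Z.root (vec chevE6 6 (r6 a b)) (isRoot_vec RGDTwE6.hp _ (rlt a b hab))
      refine ⟨e, he, fun _ t => ?_⟩
      rw [h1, ← fr_vec RGDTwE6.hp _ w6 (rlt a b hab), fr_r6 a b hab]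
  choose e he h1 using h0
  have hcast : ∀ n : ℤ, (((n : Fx φ 1)) : K) = (n : K) := fun n => map_intCast (Fx φ 1).subtype n
  refine exists_tau (φ := f) (z := z) ?_ (η := fun a b => ((e a b : ℤ) : Fx φ 1)) (fun a b => ?_)
    (fun a b hab c => ?_) (fun a b hab c c' h => ?_)
  · apply inc_injective q
    rw [map_mul, map_one]
    exact Z.sq
  · rcases he a b with h | h <;> rw [h] <;> simp
  · apply inc_injective q
    rw [map_mul, map_mul, map_inv, f_tv hP hf, f_tv hP hf, h1 a b hab]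
    exact congrArg (fun t => xc RGDTwE6.hp (vec chevE6 6 (r6 b a)) (t * (c : K))) (hcast (e a b)).symm
  · have h2 := congrArg (inc K q) h
    rw [f_tv hP hf, f_tv hP hf] at h2
    exact Subtype.ext (xc_inj RGDTwE6.hp (rlt a b hab) h2)

end

end Cfsg.Agent.H928.Ore.TwN
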