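import Cfsg.Agent.H928.Ore.TwN
import Cfsg.Agent.H194.Ore.RowThree
import Cfsg.Agent.S1070
import Cfsg.Agent.S1054

/-!
The row `²E₆(q)`, all `q` (S2443, S4171): every element is a commutator and a product of four elements of square one,
from the product lemma for `SL₃(q)`.
-/

set_option autoImplicit false
set_option linter.unusedSectionVars false

namespace Cfsg.Agent.H928.Ore.TwRow

open CoxeterSystem Cfsg.Agent.ChevalleyStructure.CoxeterGeom Cfsg.Agent.Tits.Roots Cfsg.Agent.Tits.Core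
  Cfsg.Agent.Nodes Cfsg.Agent.Nodes.Reps Cfsg.Agent.Nodes.BNOf Cfsg.Agent.Nodes.RGDLib Cfsg.Agent.Nodes.Bruhat
  Cfsg.Agent.Nodes.OppDec Cfsg.Agent.Nodes.LeviDec Cfsg.Agent.Nodes.StabComb Cfsg.Agent.Nodes.KindChev
  Cfsg.Agent.Nodes.ChevCls
  Cfsg.Agent.OddHalf.NI.ModelChev
  Cfsg.Agent.H162.GaussDec Cfsg.Agent.H162.GaussLevi Cfsg.Agent.H162.GaussSL Cfsg.Agent.H162.GaussReg
  Cfsg.Agent.H928.Ore.Frame Cfsg.Agent.H928.Ore.Fix Cfsg.Agent.H928.Ore.Block Cfsg.Agent.H928.Ore.TwE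
  Cfsg.Agent.H928.Ore.TwS Cfsg.Agent.H928.Ore.TwF Cfsg.Agent.H928.Ore.TwN
open Cfsg.Lie Cfsg.Agent.ChevalleyStructure Cfsg.Agent.ChevalleyStructure.Elts
  Cfsg.Agent.ChevalleyStructure.NPerm
  Cfsg.Agent.ChevalleyStructure.CoxeterGeomTypes Cfsg.Agent.Nodes.RGDChev Cfsg.Agent.KFacts.RgdChevCoord
open Cfsg.Agent.Nodes.RGDTwGen Cfsg.Agent.Nodes.RGDFold Cfsg.Agent.Nodes.RGDTwE6
open Cfsg.Agent.Nodes.RGDFoldSL (Fx mem_Fx)
open Cfsg.Agent.FixBN.FieldRGD (uu vv dd ww)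
open Cfsg.Agent.H162.GaussExcMain (r6 rt6 exists_hom_D w6)
open Cfsg.Agent.H335.Sr
open Cfsg.Agent.H194.Ore (M3 exists_dg3)
open Cfsg.Agent.H777.Ore (AllC Inv4)
open scoped MatrixGroups

universe u

theorem dg_of {K : Type u} [Field K] [Finite K] {X : Matrix.SpecialLinearGroup (Fin 3) K}
    (h : Irreducible (X : Matrix (Fin 3) (Fin 3) K).charpoly) : DG K X := by
  obtain ⟨K', h1, h2, ι, a, b, P, e, ha, hab, hb⟩ := exists_dg3 h
  exact ⟨K', h1, h2, ι, a, b, P, e, fun ⟨c, hc⟩ => ha c hc, fun ⟨c, hc⟩ => hab c hc, fun ⟨c, hc⟩ => hb c hc⟩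

/-- an element inverted by an element of square one is a product of two of them -/
theorem two_of {Y : Type*} [Group Y] {t c : Y} (h1 : t * t = 1) (h2 : t * c * t⁻¹ = c⁻¹) :
    ∃ a b : Y, a ^ 2 = 1 ∧ b ^ 2 = 1 ∧ c = a * b := by
  have h3 : t⁻¹ = t := inv_eq_of_mul_eq_one_right h1
  refine ⟨c * t, t, ?_, by rw [pow_two, h1], by rw [mul_assoc, h1, mul_one]⟩
  rw [h3] at h2
  calc (c * t) ^ 2 = c * (t * c * t) := by rw [pow_two]; group
    _ = 1 := by rw [h2, mul_inv_cancel]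

section

variable {K : Type u} [Field K] [Fintype K] {φ : K →+* K} {q : ℕ} (hφ : ∀ t, φ t = t ^ q)
  (hqq : ∀ t : K, (t ^ q) ^ q = t)
  {P : Matrix.SpecialLinearGroup (Fin 3) K →* ↥(chevE6.group K)}
  (hP : ∀ a b (hab : a ≠ b) c, P (Matrix.SpecialLinearGroup.transvection hab c) =
      xc RGDTwE6.hp (vec chevE6 6 (r6 a b)) (((1 : ℤ) : K) * c))
  {f : Matrix.SpecialLinearGroup (Fin 3) (Fx φ 1) →* ↥(twistedE6 K q)}
  (hf : ∀ A, inc K q (f A) = P (Matrix.SpecialLinearGroup.map (Fx φ 1).subtype A))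
  {l : Kˣ} (h1 : l ≠ 1) (h2 : l * l ≠ 1)
  {s : ↥(twistedE6 K q)} (hs : inc K q s = s0 l)

include hP hf hs

theorem s_comm (A : Matrix.SpecialLinearGroup (Fin 3) (Fx φ 1)) : s * f A = f A * s := by
  apply inc_injective q
  rw [map_mul, map_mul, hs, hf, s0_eq]
  calc sl RGDTwE6.hp (0 : Fin 6) (dd (l : K) l.ne_zero) * sl RGDTwE6.hp (5 : Fin 6) (dd ((l⁻¹ : Kˣ) : K) l⁻¹.ne_zero) *
        P (Matrix.SpecialLinearGroup.map (Fx φ 1).subtype A)
      = sl RGDTwE6.hp (0 : Fin 6) (dd (l : K) l.ne_zero) * (P (Matrix.SpecialLinearGroup.map (Fx φ 1).subtype A) *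
          sl RGDTwE6.hp (5 : Fin 6) (dd ((l⁻¹ : Kˣ) : K) l⁻¹.ne_zero)) := by
        rw [mul_assoc, sl_comm_block hP (Or.inr rfl)]
    _ = _ := by rw [← mul_assoc, sl_comm_block hP (Or.inl rfl), mul_assoc]

omit hP hf in
theorem s_T : s ∈ T K q := by
  refine Subgroup.mem_subgroupOf.2 ⟨?_, s.2⟩
  have hth : ∀ t : Fin 6 → Kˣ, th RGDTwE6.hp t ∈ TT chevE6 K := fun t => (thT RGDTwE6.hp t).2
  have h4 : s0 l ∈ TT chevE6 K := by
    unfold s0
    exact hth _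
  have h3 := Subgroup.mem_subgroupOf.1 h4
  rw [← hs] at h3
  exact h3

include hφ hqq h1 h2

theorem s_nf {W : Type*} [Group W] (cs : CoxeterSystem CoxeterMatrix.F₄ W)
    {X : Matrix.SpecialLinearGroup (Fin 3) (Fx φ 1)}
    (hX : Irreducible (X : Matrix (Fin 3) (Fin 3) (Fx φ 1)).charpoly) :
    NF (VJ cs RGDTwE6.isCartan (RGDTwE6.X φ q) JR) (s * f X) ∧
      NF (VNJ cs RGDTwE6.isCartan (RGDTwE6.X φ q) JR) (s * f X) := by
  have hφφ : ∀ t : K, φ (φ t) = t := fun t => by rw [hφ, hφ, hqq]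
  have e1 : ((Matrix.SpecialLinearGroup.map (Fx φ 1).subtype X : Matrix.SpecialLinearGroup (Fin 3) K) :
      Matrix (Fin 3) (Fin 3) K).charpoly = (X : Matrix (Fin 3) (Fin 3) (Fx φ 1)).charpoly.map (Fx φ 1).subtype :=
    Matrix.charpoly_map _ _
  have h3 : Irreducible ((Matrix.SpecialLinearGroup.map (Fx φ 1).subtype X : Matrix.SpecialLinearGroup (Fin 3) K) :
      Matrix (Fin 3) (Fin 3) K).charpoly := by
    rw [e1]
    refine irr_map hφφ hX (Matrix.charpoly_monic _) ?_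
    rw [Matrix.charpoly_natDegree_eq_dim, Fintype.card_fin]
  obtain ⟨g1, g2⟩ := nfA hP h1 h2 (dg_of h3)
  have e2 : inc K q (s * f X) = s0 l * P (Matrix.SpecialLinearGroup.map (Fx φ 1).subtype X) := by
    rw [map_mul, hs, hf]
  rw [← e2] at g1 g2
  exact ⟨NF.of_hom _ (inc_injective q) (VJ_le cs φ q) g1, NF.of_hom _ (inc_injective q) (VNJ_le cs φ q) g2⟩

omit h1 h2 in
/-- the strong reality -/
theorem s_real (hZ : Subgroup.center ↥(chevE6.group K) = ⊥) {X : Matrix.SpecialLinearGroup (Fin 3) (Fx φ 1)}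
    (hX : Irreducible (X : Matrix (Fin 3) (Fin 3) (Fx φ 1)).charpoly) :
    (∃ t : ↥(twistedE6 K q), t * t = 1 ∧ t * (s * f X) * t⁻¹ = (s * f X)⁻¹) ∧
      ∃ y : ↥(twistedE6 K q), y * s * y⁻¹ = s ∧ y * f X * y⁻¹ = (f X)⁻¹ := by
  obtain ⟨z, Z⟩ := exists_z hφ hqq hZ
  obtain ⟨m, hm⟩ := exists_inc hφ hqq (sgY_mm φ)
  obtain ⟨d, hd, hz⟩ := z_f hP hf Z
  have hprod : (∏ a, d a) ≠ 0 := Finset.prod_ne_zero_iff.2 fun a _ => left_ne_zero_of_mul_eq_one (hd a)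
  obtain ⟨H, hH, hXH, hdet⟩ := exists_symm X.1 hX (∏ a, d a)
  obtain ⟨S, g1, g2⟩ := exists_S hd X hH hXH hdet
  have hzz : z * z = 1 := by
    apply inc_injective q
    rw [map_mul, map_one]
    exact Z.sq
  obtain ⟨g3, g4⟩ := invol hzz hz g1 g2
  have hzs : z * s * z⁻¹ = s := by
    apply inc_injective q
    rw [map_mul, map_mul, map_inv, hs]
    exact z_s0 Z l
  have hmf : ∀ A, m * f A = f A * m := by
    intro A
    apply inc_injective q
    rw [map_mul, map_mul, hm, hf]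
    unfold mm
    rw [mul_assoc, sl_comm_block hP (Or.inr rfl), ← mul_assoc, sl_comm_block hP (Or.inl rfl), mul_assoc]
  have hms : m * s * m⁻¹ = s⁻¹ := by
    apply inc_injective q
    rw [map_mul, map_mul, map_inv, map_inv, hs, hm]
    exact mm_s0 l
  have hzm : z * m * z⁻¹ = m⁻¹ := by
    apply inc_injective q
    rw [map_mul, map_mul, map_inv, map_inv, hm]
    exact z_mm Z
  have hzi : z⁻¹ = z := inv_eq_of_mul_eq_one_left hzz
  have hzm2 : (z * m) * (z * m) = 1 := by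
    calc (z * m) * (z * m) = (z * m * z) * m := by group
      _ = (z * m * z⁻¹) * m := by rw [hzi]
      _ = 1 := by rw [hzm]; group
  have hzms : (z * m) * s * (z * m)⁻¹ = s⁻¹ := by
    calc (z * m) * s * (z * m)⁻¹ = z * (m * s * m⁻¹) * z⁻¹ := by group
      _ = (z * s * z⁻¹)⁻¹ := by rw [hms]; group
      _ = s⁻¹ := by rw [hzs]
  have hsf := s_comm (φ := φ) hP hf hs
  obtain ⟨g5, g6⟩ := combine (z := z) (S := f S) (m := m) (c := f X) (v := s) hzz g3 hzm2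
    (hmf S).symm (hmf X) (hsf S).symm (hsf X).symm g4 hzms
  refine ⟨⟨_, g5, ?_⟩, z * f S, ?_, g4⟩
  · rw [hsf X]
    exact g6
  · calc (z * f S) * s * (z * f S)⁻¹ = z * (f S * s) * (f S)⁻¹ * z⁻¹ := by group
      _ = z * s * z⁻¹ := by rw [← hsf]; group
      _ = s := hzs

end

/-- **The row `²E₆(q)`.** -/
theorem row_of {K : Type u} [Field K] [Fintype K] {q : ℕ} (hq : IsPrimePow q) (hK : Fintype.card K = q ^ 2)
    (hm3 : ∀ φ : K →+* K, (∀ t, φ t = t ^ q) → M3 (Fx φ 1)) :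
    AllC ↥(twistedE6 K q) ∧ Inv4 ↥(twistedE6 K q) := by
  obtain ⟨φ, hφ, hqq⟩ := TwE6Basic.exists_frob hq hK
  obtain ⟨p, hpc⟩ := CharP.exists K
  have : Fact p.Prime := ⟨(CharP.char_is_prime_or_zero K p).resolve_right (CharP.char_ne_zero_of_finite K p)⟩
  have hfin : Finite (GL chevE6.Idx K) := by
    have : Finite (Matrix chevE6.Idx chevE6.Idx K) := inferInstance
    infer_instance
  have : Finite ↥(twistedE6 K q) := inferInstance
  have hZ := Cfsg.Agent.Nodes.ChevChart.center_eq_bot (Cfsg.Agent.S1054.result (F := K) chevE6 (by simp))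
  have R := RGDTwE6.rgd CoxeterMatrix.F₄.toCoxeterSystem hφ hqq p
  have : Finite CoxeterMatrix.F₄.Group := Cfsg.Agent.Nodes.RGDFold.finite_W (hp := RGDTwE6.hp)
    CoxeterMatrix.F₄.toCoxeterSystem RGDTwE6.isCartan RGDTwE6.foldData
  have hS := Cfsg.Agent.S1070.result hq hK
  have := hS.1
  obtain ⟨P, hP⟩ := exists_hom_D RGDTwE6.hp (K := K) (ε := 1) (by norm_num) rt6.1 rt6.2.1 rt6.2.2.1 rt6.2.2.2
  obtain ⟨f, hf⟩ := exists_f hφ hqq hP
  obtain ⟨l, hl, h1, h2⟩ := exists_norm_one hφ hq.one_lt hK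
  obtain ⟨s, hs⟩ := exists_inc hφ hqq (sgY_s0 hl)
  have hs' : inc K q s⁻¹ = s0 l⁻¹ := by rw [map_inv, hs, s0_inv]
  have h1' : l⁻¹ ≠ 1 := by rwa [ne_eq, inv_eq_one]
  have h2' : l⁻¹ * l⁻¹ ≠ 1 := by
    rw [← mul_inv, ne_eq, inv_eq_one]
    exact h2
  have hsf := s_comm (φ := φ) hP hf hs
  have hsf' := s_comm (φ := φ) hP hf hs'
  -- the pairs
  have hb : ∀ v ∈ UNJ CoxeterMatrix.F₄.toCoxeterSystem RGDTwE6.isCartan (RGDTwE6.X φ q) JR,
      ∀ u ∈ UJ CoxeterMatrix.F₄.toCoxeterSystem RGDTwE6.isCartan (RGDTwE6.X φ q) JR, ∃ c₁ c₂, v * u = c₁ * c₂ ∧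
        LP CoxeterMatrix.F₄.toCoxeterSystem RGDTwE6.isCartan (T K q) (RGDTwE6.X φ q) JR c₁ c₂ ∧
        (∃ y, c₂ = y * c₁⁻¹ * y⁻¹) ∧ (∃ a b : ↥(twistedE6 K q), a ^ 2 = 1 ∧ b ^ 2 = 1 ∧ c₁ = a * b) ∧
        ∃ a b : ↥(twistedE6 K q), a ^ 2 = 1 ∧ b ^ 2 = 1 ∧ c₂ = a * b := by
    intro v hv u hu
    obtain ⟨L, hL, rfl⟩ := lo_f hφ hqq hP hf _ hv
    obtain ⟨U, hU, rfl⟩ := up_f hφ hqq hP hf _ hu
    obtain ⟨X, Y, hXY, hX, hY, hc⟩ := hm3 φ hφ L hL U hU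
    have hsT : s ∈ LJ CoxeterMatrix.F₄.toCoxeterSystem RGDTwE6.isCartan (T K q) (RGDTwE6.X φ q) JR :=
      T_le_LJ (s_T hs)
    obtain ⟨⟨t, ht1, ht2⟩, y, hy1, hy2⟩ := s_real hφ hqq hP hf hs hZ hX
    obtain ⟨⟨t', ht1', ht2'⟩, -⟩ := s_real hφ hqq hP hf hs' hZ hY
    refine ⟨s * f X, s⁻¹ * f Y, ?_, ⟨mul_mem hsT (f_LJ hφ hqq hP hf _ X), mul_mem (inv_mem hsT) (f_LJ hφ hqq hP hf _ Y),
      (s_nf hφ hqq hP hf h1 h2 hs _ hX).2, (s_nf hφ hqq hP hf h1' h2' hs' _ hY).1⟩, ?_, two_of ht1 ht2, two_of ht1' ht2'⟩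
    · rw [← map_mul, hXY, map_mul, hsf]
      group
    · have e5 : ∀ g, s⁻¹ * f g = f g * s⁻¹ := hsf'
      rcases hc with hc | hc
      · obtain ⟨g, hg⟩ := Cfsg.Agent.H150.MF.exists_conj (Cfsg.Agent.H150.MF.cls_of_irreducible hX)
          (Cfsg.Agent.H150.MF.cls_of_irreducible hY) hc.symm
        refine ⟨f g * y⁻¹, ?_⟩
        have e6 : y⁻¹ * s⁻¹ * y = s⁻¹ := by
          have : y⁻¹ * s * y = s := by
            calc y⁻¹ * s * y = y⁻¹ * (y * s * y⁻¹) * y := by rw [hy1]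
              _ = s := by group
          calc y⁻¹ * s⁻¹ * y = (y⁻¹ * s * y)⁻¹ := by group
            _ = s⁻¹ := by rw [this]
        have e7 : y⁻¹ * (f X)⁻¹ * y = f X := by
          rw [← hy2]; group
        calc s⁻¹ * f Y = s⁻¹ * f g * f X * (f g)⁻¹ := by rw [hg, map_mul, map_mul, map_inv]; group
          _ = f g * (s⁻¹ * f X) * (f g)⁻¹ := by rw [e5 g]; group
          _ = f g * ((y⁻¹ * s⁻¹ * y) * (y⁻¹ * (f X)⁻¹ * y)) * (f g)⁻¹ := by rw [e6, e7]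
          _ = (f g * y⁻¹) * (f X * s)⁻¹ * (f g * y⁻¹)⁻¹ := by
            have e8 : s⁻¹ * (f X)⁻¹ = (f X * s)⁻¹ := by group
            rw [← e8]; group
          _ = _ := by rw [← hsf]
      · have hXi : Irreducible ((X⁻¹ : Matrix.SpecialLinearGroup (Fin 3) (Fx φ 1)) :
            Matrix (Fin 3) (Fin 3) (Fx φ 1)).charpoly := by
          rw [← hc]
          exact hY
        obtain ⟨g, hg⟩ := Cfsg.Agent.H150.MF.exists_conj (Cfsg.Agent.H150.MF.cls_of_irreducible hXi)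
          (Cfsg.Agent.H150.MF.cls_of_irreducible hY) hc.symm
        refine ⟨f g, ?_⟩
        calc s⁻¹ * f Y = (s⁻¹ * f g) * (f X)⁻¹ * (f g)⁻¹ := by
              rw [hg, map_mul, map_mul, map_inv, map_inv]; group
          _ = f g * (f X * s)⁻¹ * (f g)⁻¹ := by rw [e5]; group
          _ = _ := by rw [← hsf]
  have hG := RGDTwE6.G1_eq_top CoxeterMatrix.F₄.toCoxeterSystem hφ hqq
  have hcoord := Cfsg.Agent.H958.TS.TwCommon.coordP hφ hqq
  have hM := Cfsg.Agent.Nodes.ChevChart.irr_of Cfsg.Agent.Nodes.ChevChart.irrF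
  have hcore : ∀ g : ↥(twistedE6 K q), g ≠ 1 →
      g ∉ (RGD.B CoxeterMatrix.F₄.toCoxeterSystem RGDTwE6.isCartan (T K q) (RGDTwE6.X φ q)).normalCore := by
    intro g hg h
    apply hg
    have h3 := Cfsg.Agent.H162.GaussMain.core_le_ker R (MonoidHom.id ↥(twistedE6 K q)) Function.surjective_id
      (fun x hx => by
        rw [MonoidHom.mem_ker] at hx
        change x = 1 at hx
        rw [hx]
        exact one_mem _) h
    exact h3
  constructor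
  · intro g
    by_cases hg : g = 1
    · rw [hg]
      exact ⟨1, 1, by group⟩
    · exact comm R hG hcoord hM (J := JR) (fun v hv u hu => by
        obtain ⟨c₁, c₂, e1, e2, e3, -, -⟩ := hb v hv u hu
        exact ⟨c₁, c₂, e1, e2, e3⟩) (hcore g hg)
  · intro g
    by_cases hg : g = 1
    · rw [hg]
      exact ⟨1, 1, 1, 1, by simp, by simp, by simp, by simp, by simp⟩
    · obtain ⟨a, b, c, d, ha, hb', hc, hd, e⟩ := four R hG hcoord hM (J := JR) (fun v hv u hu => by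
        obtain ⟨c₁, c₂, e1, e2, -, e4, e5⟩ := hb v hv u hu
        exact ⟨c₁, c₂, e1, e2, e4, e5⟩) (hcore g hg)
      exact ⟨a, b, c, d, by rw [← pow_two, ha], by rw [← pow_two, hb'], by rw [← pow_two, hc], by rw [← pow_two, hd], e⟩

end Cfsg.Agent.H928.Ore.TwRow
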