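import Cfsg.Agent.H928.Ore.TwE

/-!
Homomorphisms into `²E₆(q)` (S2443, S4171).

* `rv2` : `A ↦ A` with rows and columns reversed, on `SL₂(K)`; `sgY_sl` : the graph automorphism on the images of `SL₂(K)`;
* `s0`, `mm` : the elements of the rank one group of the relative node `3`;
* `exists_f` : the homomorphism `SL₃(k) → ²E₆(q)` of the block `{1, 3}`;
* `exists_z` : an involution of `²E₆(q)` over the longest element.
-/

set_option autoImplicit false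
set_option linter.unusedSectionVars false

namespace Cfsg.Agent.H928.Ore.TwS

open CoxeterSystem Cfsg.Agent.ChevalleyStructure.CoxeterGeom Cfsg.Agent.Tits.Roots Cfsg.Agent.Tits.Core
  Cfsg.Agent.Nodes Cfsg.Agent.Nodes.Reps Cfsg.Agent.Nodes.BNOf Cfsg.Agent.Nodes.RGDLib Cfsg.Agent.Nodes.Bruhat
  Cfsg.Agent.Nodes.OppDec Cfsg.Agent.Nodes.LeviDec Cfsg.Agent.Nodes.StabComb Cfsg.Agent.Nodes.KindChev
  Cfsg.Agent.Nodes.ChevCls
  Cfsg.Agent.OddHalf.NI.ModelChev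
  Cfsg.Agent.H162.GaussDec Cfsg.Agent.H162.GaussLevi Cfsg.Agent.H162.GaussSL Cfsg.Agent.H162.GaussReg
  Cfsg.Agent.H928.Ore.Frame Cfsg.Agent.H928.Ore.Fix Cfsg.Agent.H928.Ore.Block Cfsg.Agent.H928.Ore.TwE
open Cfsg.Lie Cfsg.Agent.ChevalleyStructure Cfsg.Agent.ChevalleyStructure.Elts
  Cfsg.Agent.ChevalleyStructure.NPerm
  Cfsg.Agent.ChevalleyStructure.CoxeterGeomTypes Cfsg.Agent.Nodes.RGDChev Cfsg.Agent.KFacts.RgdChevCoord
open Cfsg.Agent.Nodes.RGDTwGen Cfsg.Agent.Nodes.RGDFold Cfsg.Agent.Nodes.RGDTwE6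
open Cfsg.Agent.Nodes.RGDFoldSL (Fx mem_Fx)
open Cfsg.Agent.ChevalleyStructure.TwistedU Cfsg.Agent.ChevalleyStructure.TwistedFix
open Cfsg.Agent.ChevalleyStructure.TwE6Basic (sg hE6 epsE)
open Cfsg.Agent.FixBN.FieldRGD (uu vv dd ww)
open Cfsg.Agent.H162.GaussExcMain (r6 rt6 chk6'' exists_hom_D w6)
open scoped MatrixGroups

universe u

/-! ### Homomorphisms of `SL_n` -/

section

variable {K : Type*} [Field K] {Y : Type*} [Group Y]

theorem tv01 (c : K) : Matrix.SpecialLinearGroup.transvection (show (0 : Fin 2) ≠ 1 by decide) c = uu c := by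
  apply Subtype.ext
  ext i j
  fin_cases i <;> fin_cases j <;> simp [Matrix.SpecialLinearGroup.transvection, Matrix.transvection, uu]

theorem tv10 (c : K) : Matrix.SpecialLinearGroup.transvection (show (1 : Fin 2) ≠ 0 by decide) c = vv c := by
  apply Subtype.ext
  ext i j
  fin_cases i <;> fin_cases j <;> simp [Matrix.SpecialLinearGroup.transvection, Matrix.transvection, vv]

theorem ext2 {f f' : SL(2, K) →* Y} (h1 : ∀ a, f (uu a) = f' (uu a)) (h2 : ∀ a, f (vv a) = f' (vv a)) : f = f' := by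
  refine hom_ext fun i j hij c => ?_
  fin_cases i <;> fin_cases j
  · exact absurd rfl hij
  · exact (congrArg f (tv01 c)).trans ((h1 c).trans (congrArg f' (tv01 c)).symm)
  · exact (congrArg f (tv10 c)).trans ((h2 c).trans (congrArg f' (tv10 c)).symm)
  · exact absurd rfl hij

theorem comm_gen {n : ℕ} {f : Matrix.SpecialLinearGroup (Fin n) K →* Y} {y : Y}
    (h : ∀ a b (hab : a ≠ b) c, y * f (Matrix.SpecialLinearGroup.transvection hab c) =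
      f (Matrix.SpecialLinearGroup.transvection hab c) * y) (A : Matrix.SpecialLinearGroup (Fin n) K) :
    y * f A = f A * y := by
  have h2 : (MulAut.conj y).toMonoidHom.comp f = f := by
    refine hom_ext fun a b hab c => ?_
    change y * f _ * y⁻¹ = f _
    rw [h a b hab c]
    group
  have h3 := DFunLike.congr_fun h2 A
  change y * f A * y⁻¹ = f A at h3
  calc y * f A = (y * f A * y⁻¹) * y := by group
    _ = f A * y := by rw [h3]

theorem comm_gen2 {f : SL(2, K) →* Y} {y : Y} (h1 : ∀ a, y * f (uu a) = f (uu a) * y)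
    (h2 : ∀ a, y * f (vv a) = f (vv a) * y) (A : SL(2, K)) : y * f A = f A * y := by
  refine comm_gen (fun i j hij c => ?_) A
  fin_cases i <;> fin_cases j
  · exact absurd rfl hij
  · have e := congrArg f (tv01 c)
    exact (congrArg (y * ·) e).trans ((h1 c).trans (congrArg (· * y) e).symm)
  · have e := congrArg f (tv10 c)
    exact (congrArg (y * ·) e).trans ((h2 c).trans (congrArg (· * y) e).symm)
  · exact absurd rfl hij

/-- reversal of rows and columns -/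
def rv2 : SL(2, K) →* SL(2, K) where
  toFun A := ⟨!![A.1 1 1, A.1 1 0; A.1 0 1, A.1 0 0], by
    have := A.2
    rw [Matrix.det_fin_two] at this
    rw [Matrix.det_fin_two_of]
    linear_combination this⟩
  map_one' := by
    apply Subtype.ext
    change !![(1 : Matrix (Fin 2) (Fin 2) K) 1 1, (1 : Matrix (Fin 2) (Fin 2) K) 1 0;
      (1 : Matrix (Fin 2) (Fin 2) K) 0 1, (1 : Matrix (Fin 2) (Fin 2) K) 0 0] = 1
    ext i j
    fin_cases i <;> fin_cases j <;> simp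
  map_mul' A B := by
    apply Subtype.ext
    change !![(A.1 * B.1) 1 1, (A.1 * B.1) 1 0; (A.1 * B.1) 0 1, (A.1 * B.1) 0 0] =
      !![A.1 1 1, A.1 1 0; A.1 0 1, A.1 0 0] * !![B.1 1 1, B.1 1 0; B.1 0 1, B.1 0 0]
    ext i j
    fin_cases i <;> fin_cases j <;> simp [Matrix.mul_apply, Fin.sum_univ_two, add_comm]

theorem rv2_uu (a : K) : rv2 (uu a) = vv a := by
  apply Subtype.ext
  change !![(1 : K), 0; a, 1] = !![1, 0; a, 1]
  rfl

theorem rv2_vv (a : K) : rv2 (vv a) = uu a := by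
  apply Subtype.ext
  change !![(1 : K), a; 0, 1] = !![1, a; 0, 1]
  rfl

theorem rv2_dd (c : K) (hc : c ≠ 0) : rv2 (dd c hc) = dd c⁻¹ (inv_ne_zero hc) := by
  apply Subtype.ext
  change !![c⁻¹, 0; 0, c] = !![c⁻¹, 0; 0, c⁻¹⁻¹]
  rw [inv_inv]

theorem rv2_ww : rv2 (ww (1 : K) one_ne_zero) = (ww 1 one_ne_zero)⁻¹ := by
  apply Subtype.ext
  rw [Matrix.SpecialLinearGroup.coe_inv, Matrix.adjugate_fin_two]
  change !![(0 : K), -1⁻¹; 1, 0] = !![0, -1; - -1⁻¹, 0]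
  simp

theorem dd_inv (c : K) (hc : c ≠ 0) : (dd c hc)⁻¹ = dd c⁻¹ (inv_ne_zero hc) := by
  apply Subtype.ext
  rw [Matrix.SpecialLinearGroup.coe_inv, Matrix.adjugate_fin_two]
  change !![c⁻¹, -0; -0, c] = !![c⁻¹, 0; 0, c⁻¹⁻¹]
  simp

theorem ww_dd (c : K) (hc : c ≠ 0) :
    ww 1 one_ne_zero * dd c hc * (ww 1 one_ne_zero)⁻¹ = dd c⁻¹ (inv_ne_zero hc) := by
  rw [mul_inv_eq_iff_eq_mul]
  apply Subtype.ext
  change !![(0 : K), 1; -1⁻¹, 0] * !![c, 0; 0, c⁻¹] = !![c⁻¹, 0; 0, c⁻¹⁻¹] * !![(0 : K), 1; -1⁻¹, 0]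
  rw [Matrix.mul_fin_two, Matrix.mul_fin_two]
  simp

end

variable {K : Type u} [Field K]

/-! ### The node `3` -/

theorem sgY_sl (φ : K →+* K) (i : Fin 6) (A : SL(2, K)) :
    sgY φ (sl RGDTwE6.hp i A) = sl RGDTwE6.hp (ga i) (Matrix.SpecialLinearGroup.map φ A) := by
  have h : (sgY φ).comp (sl RGDTwE6.hp i) = (sl RGDTwE6.hp (ga i)).comp (Matrix.SpecialLinearGroup.map φ) := by
    refine ext2 (fun a => ?_) (fun a => ?_)
    · have e : Matrix.SpecialLinearGroup.map φ (uu a) = uu (φ a) := by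
        apply Subtype.ext
        change (!![(1 : K), a; 0, 1]).map φ = !![1, φ a; 0, 1]
        ext i j
        fin_cases i <;> fin_cases j <;> simp
      change sgY φ (sl RGDTwE6.hp i (uu a)) = sl RGDTwE6.hp (ga i) (Matrix.SpecialLinearGroup.map φ (uu a))
      rw [e, sl_uu, sl_uu, sgY_pos]
    · have e : Matrix.SpecialLinearGroup.map φ (vv a) = vv (φ a) := by
        apply Subtype.ext
        change (!![(1 : K), 0; a, 1]).map φ = !![1, 0; φ a, 1]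
        ext i j
        fin_cases i <;> fin_cases j <;> simp
      change sgY φ (sl RGDTwE6.hp i (vv a)) = sl RGDTwE6.hp (ga i) (Matrix.SpecialLinearGroup.map φ (vv a))
      rw [e, sl_vv, sl_vv, sgY_neg]
  exact DFunLike.congr_fun h A

/-- commuting root elements -/
theorem xc_comm {r s : ℕ} (hr : r < 72) (hs : s < 72) (hrs : s ≠ r) (hneg : s ≠ chevE6.neg r)
    (h : chevE6.commTerms r s = []) (t u : K) :
    xc RGDTwE6.hp (vec chevE6 6 s) u * xc RGDTwE6.hp (vec chevE6 6 r) t =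
      xc RGDTwE6.hp (vec chevE6 6 r) t * xc RGDTwE6.hp (vec chevE6 6 s) u := by
  apply Subtype.ext
  rw [Subgroup.coe_mul, Subgroup.coe_mul, coe_xc RGDTwE6.hp hr, coe_xc RGDTwE6.hp hs]
  exact TwE6Basic.comm_of_commTerms hr hs hrs hneg h t u

theorem sim6 : chevE6.simple (0 : Fin 6) = 56 ∧ chevE6.neg 56 = 15 ∧ chevE6.simple (5 : Fin 6) = 36 ∧
    chevE6.neg 36 = 35 := by decide +kernel

theorem sr0 : (sr (0 : Fin 6) : Fin 6 → ℤ) = vec chevE6 6 56 ∧ (-sr (0 : Fin 6) : Fin 6 → ℤ) = vec chevE6 6 15 := by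
  obtain ⟨h1, h2, -, -⟩ := sim6
  have h3 := vec_simple RGDTwE6.hp (0 : Fin 6)
  rw [h1] at h3
  refine ⟨h3.symm, ?_⟩
  rw [← h2, vec_neg RGDTwE6.hp (by decide), h3]

theorem sr5 : (sr (5 : Fin 6) : Fin 6 → ℤ) = vec chevE6 6 36 ∧ (-sr (5 : Fin 6) : Fin 6 → ℤ) = vec chevE6 6 35 := by
  obtain ⟨-, -, h1, h2⟩ := sim6
  have h3 := vec_simple RGDTwE6.hp (5 : Fin 6)
  rw [h1] at h3
  refine ⟨h3.symm, ?_⟩
  rw [← h2, vec_neg RGDTwE6.hp (by decide), h3]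

/-- the images for the nodes `0` and `5` commute -/
theorem sl_comm (A B : SL(2, K)) :
    sl RGDTwE6.hp (0 : Fin 6) A * sl RGDTwE6.hp (5 : Fin 6) B = sl RGDTwE6.hp (5 : Fin 6) B * sl RGDTwE6.hp (0 : Fin 6) A := by
  have key : ∀ r ∈ [56, 15], ∀ s ∈ [36, 35], ∀ t u : K,
      xc RGDTwE6.hp (vec chevE6 6 s) u * xc RGDTwE6.hp (vec chevE6 6 r) t =
        xc RGDTwE6.hp (vec chevE6 6 r) t * xc RGDTwE6.hp (vec chevE6 6 s) u := by
    intro r hr s hs t u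
    have h : ∀ r ∈ [56, 15], ∀ s ∈ [36, 35], r < 72 ∧ s < 72 ∧ s ≠ r ∧ s ≠ chevE6.neg r ∧
      chevE6.commTerms r s = [] := by decide +kernel
    obtain ⟨h1, h2, h3, h4, h5⟩ := h r hr s hs
    exact xc_comm h1 h2 h3 h4 h5 t u
  have g1 : ∀ r ∈ [56, 15], ∀ t : K, ∀ B : SL(2, K), xc RGDTwE6.hp (vec chevE6 6 r) t * sl RGDTwE6.hp (5 : Fin 6) B =
      sl RGDTwE6.hp (5 : Fin 6) B * xc RGDTwE6.hp (vec chevE6 6 r) t := by
    intro r hr t B
    refine comm_gen2 (fun a => ?_) (fun a => ?_) B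
    · rw [sl_uu, sr5.1]
      exact (key r hr 36 (by simp) t a).symm
    · rw [sl_vv, sr5.2]
      exact (key r hr 35 (by simp) t a).symm
  refine (comm_gen2 (f := sl RGDTwE6.hp (0 : Fin 6)) (y := sl RGDTwE6.hp (5 : Fin 6) B) (fun a => ?_) (fun a => ?_) A).symm
  · rw [sl_uu, sr0.1]
    exact (g1 56 (by simp) a B).symm
  · rw [sl_vv, sr0.2]
    exact (g1 15 (by simp) a B).symm

/-- the images for the nodes `0` and `5` commute with the block -/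
theorem sl_comm_block {φ : Matrix.SpecialLinearGroup (Fin 3) K →* ↥(chevE6.group K)}
    (hφ : ∀ a b (hab : a ≠ b) c, φ (Matrix.SpecialLinearGroup.transvection hab c) =
      xc RGDTwE6.hp (vec chevE6 6 (r6 a b)) (((1 : ℤ) : K) * c)) {i : Fin 6} (hi : i = 0 ∨ i = 5) (A : SL(2, K))
    (B : Matrix.SpecialLinearGroup (Fin 3) K) : sl RGDTwE6.hp i A * φ B = φ B * sl RGDTwE6.hp i A := by
  have key : ∀ a b : Fin 3, a ≠ b → ∀ s ∈ [56, 15, 36, 35], ∀ t u : K,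
      xc RGDTwE6.hp (vec chevE6 6 s) u * xc RGDTwE6.hp (vec chevE6 6 (r6 a b)) t =
        xc RGDTwE6.hp (vec chevE6 6 (r6 a b)) t * xc RGDTwE6.hp (vec chevE6 6 s) u := by
    intro a b hab s hs t u
    have h : ∀ a b : Fin 3, a ≠ b → ∀ s ∈ [56, 15, 36, 35], r6 a b < 72 ∧ s < 72 ∧ s ≠ r6 a b ∧
      s ≠ chevE6.neg (r6 a b) ∧ chevE6.commTerms (r6 a b) s = [] := by decide +kernel
    obtain ⟨h1, h2, h3, h4, h5⟩ := h a b hab s hs
    exact xc_comm h1 h2 h3 h4 h5 t u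
  have g1 : ∀ s ∈ [56, 15, 36, 35], ∀ t : K, xc RGDTwE6.hp (vec chevE6 6 s) t * φ B =
      φ B * xc RGDTwE6.hp (vec chevE6 6 s) t := by
    intro s hs t
    refine comm_gen (fun a b hab c => ?_) B
    rw [hφ]
    exact key a b hab s hs _ t
  symm
  refine comm_gen2 (fun a => ?_) (fun a => ?_) A
  · rw [sl_uu]
    rcases hi with rfl | rfl
    · rw [sr0.1]; exact (g1 56 (by simp) a).symm
    · rw [sr5.1]; exact (g1 36 (by simp) a).symm
  · rw [sl_vv]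
    rcases hi with rfl | rfl
    · rw [sr0.2]; exact (g1 15 (by simp) a).symm
    · rw [sr5.2]; exact (g1 35 (by simp) a).symm

/-- the semisimple element `h₀(l) h₅(l⁻¹)` -/
noncomputable def s0 (l : Kˣ) : ↥(chevE6.group K) :=
  th RGDTwE6.hp (Pi.mulSingle (0 : Fin 6) l * Pi.mulSingle (5 : Fin 6) l⁻¹)

theorem s0_eq (l : Kˣ) : s0 l = sl RGDTwE6.hp (0 : Fin 6) (dd (l : K) l.ne_zero) *
    sl RGDTwE6.hp (5 : Fin 6) (dd ((l⁻¹ : Kˣ) : K) l⁻¹.ne_zero) := by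
  unfold s0
  rw [map_mul, th_mulSingle, th_mulSingle]

theorem s0_inv (l : Kˣ) : (s0 l)⁻¹ = s0 l⁻¹ := by
  unfold s0
  rw [← map_inv]
  congr 1
  rw [mul_inv, ← Pi.mulSingle_inv, ← Pi.mulSingle_inv]

theorem sgY_s0 {φ : K →+* K} {l : Kˣ} (hl : φ l * l = 1) : sgY φ (s0 l) = s0 l := by
  have e1 : φ (l : K) = ((l⁻¹ : Kˣ) : K) := by
    rw [Units.val_inv_eq_inv_val]
    exact eq_inv_of_mul_eq_one_left hl
  have e2 : φ ((l⁻¹ : Kˣ) : K) = (l : K) := by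
    rw [Units.val_inv_eq_inv_val, map_inv₀, e1, Units.val_inv_eq_inv_val, inv_inv]
  have e3 : ∀ (c : K) (hc : c ≠ 0), Matrix.SpecialLinearGroup.map φ (dd c hc) = dd (φ c) ((map_ne_zero φ).2 hc) := by
    intro c hc
    apply Subtype.ext
    change (!![c, 0; 0, c⁻¹]).map φ = !![φ c, 0; 0, (φ c)⁻¹]
    ext i j
    fin_cases i <;> fin_cases j <;> simp
  rw [s0_eq, map_mul, sgY_sl, sgY_sl, e3, e3]
  change sl RGDTwE6.hp (5 : Fin 6) _ * sl RGDTwE6.hp (0 : Fin 6) _ = _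
  rw [← sl_comm]
  congr 2
  · apply Subtype.ext
    change !![φ ((l⁻¹ : Kˣ) : K), 0; 0, (φ ((l⁻¹ : Kˣ) : K))⁻¹] = !![(l : K), 0; 0, (l : K)⁻¹]
    rw [e2]
  · apply Subtype.ext
    change !![φ (l : K), 0; 0, (φ (l : K))⁻¹] = !![((l⁻¹ : Kˣ) : K), 0; 0, ((l⁻¹ : Kˣ) : K)⁻¹]
    rw [e1]

/-- the product of the reflections of the nodes `0` and `5` -/
noncomputable def mm (K : Type u) [Field K] : ↥(chevE6.group K) :=
  sl RGDTwE6.hp (0 : Fin 6) (ww 1 one_ne_zero) * sl RGDTwE6.hp (5 : Fin 6) (ww 1 one_ne_zero)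

theorem sgY_mm (φ : K →+* K) : sgY φ (mm K) = mm K := by
  have e3 : Matrix.SpecialLinearGroup.map φ (ww (1 : K) one_ne_zero) = ww 1 one_ne_zero := by
    apply Subtype.ext
    change (!![(0 : K), 1; -1⁻¹, 0]).map φ = !![(0 : K), 1; -1⁻¹, 0]
    ext i j
    fin_cases i <;> fin_cases j <;> simp
  unfold mm
  rw [map_mul, sgY_sl, sgY_sl, e3]
  change sl RGDTwE6.hp (5 : Fin 6) _ * sl RGDTwE6.hp (0 : Fin 6) _ = _
  rw [← sl_comm]

theorem mm_s0 (l : Kˣ) : mm K * s0 l * (mm K)⁻¹ = (s0 l)⁻¹ := by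
  rw [s0_inv, s0_eq, s0_eq]
  unfold mm
  set a := sl RGDTwE6.hp (0 : Fin 6) (ww (1 : K) one_ne_zero)
  set b := sl RGDTwE6.hp (5 : Fin 6) (ww (1 : K) one_ne_zero)
  set c := sl RGDTwE6.hp (0 : Fin 6) (dd (l : K) l.ne_zero) with hc
  set d := sl RGDTwE6.hp (5 : Fin 6) (dd ((l⁻¹ : Kˣ) : K) l⁻¹.ne_zero) with hd
  have h1 : b * c = c * b := (sl_comm _ _).symm
  have h2 : a * d = d * a := sl_comm _ _
  have h3 : a * c * a⁻¹ = sl RGDTwE6.hp (0 : Fin 6) (dd ((l⁻¹ : Kˣ) : K) l⁻¹.ne_zero) := by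
    rw [hc, ← map_inv, ← map_mul, ← map_mul, ww_dd]
    congr 1
    apply Subtype.ext
    change !![(l : K)⁻¹, 0; 0, (l : K)⁻¹⁻¹] = !![((l⁻¹ : Kˣ) : K), 0; 0, ((l⁻¹ : Kˣ) : K)⁻¹]
    rw [Units.val_inv_eq_inv_val]
  have h4 : b * d * b⁻¹ = sl RGDTwE6.hp (5 : Fin 6) (dd ((l⁻¹⁻¹ : Kˣ) : K) l⁻¹⁻¹.ne_zero) := by
    rw [hd, ← map_inv, ← map_mul, ← map_mul, ww_dd]
    congr 1
    apply Subtype.ext
    change !![((l⁻¹ : Kˣ) : K)⁻¹, 0; 0, ((l⁻¹ : Kˣ) : K)⁻¹⁻¹] = !![((l⁻¹⁻¹ : Kˣ) : K), 0; 0, ((l⁻¹⁻¹ : Kˣ) : K)⁻¹]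
    rw [Units.val_inv_eq_inv_val, Units.val_inv_eq_inv_val, Units.val_inv_eq_inv_val]
  have h5 : a * b = b * a := sl_comm _ _
  have h6 : a * (b * d * b⁻¹) * a⁻¹ = b * d * b⁻¹ := by
    rw [h4, show a * sl RGDTwE6.hp (5 : Fin 6) (dd ((l⁻¹⁻¹ : Kˣ) : K) l⁻¹⁻¹.ne_zero) =
      sl RGDTwE6.hp (5 : Fin 6) (dd ((l⁻¹⁻¹ : Kˣ) : K) l⁻¹⁻¹.ne_zero) * a from sl_comm _ _]
    group
  calc a * b * (c * d) * (a * b)⁻¹ = a * (b * c) * (d * b⁻¹) * a⁻¹ := by group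
    _ = (a * c * a⁻¹) * (a * (b * d * b⁻¹) * a⁻¹) := by rw [h1]; group
    _ = _ := by rw [h6, h3, h4]

end Cfsg.Agent.H928.Ore.TwS
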